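import Cfsg.Agent.Lib.Spor.Cos.Fi23.ActAInv0
import Cfsg.Agent.Lib.Spor.Cos.Fi23.ActAInv1

/-! Data and checks for a presented sporadic group. -/

set_option autoImplicit false
set_option maxRecDepth 100000
set_option maxHeartbeats 4000000

namespace Cfsg.Agent.Spor.Cos.Fi23

theorem actA_inv : ∀ i < 31671, (actA.chkInv) i = true :=
  of_blocks (size := 1024) (b := 31) (by decide) (by decide) fun j hj => by
    interval_cases j
    · exact actA_inv0
    · exact actA_inv1
    · exact actA_inv2
    · exact actA_inv3
    · exact actA_inv4
    · exact actA_inv5
    · exact actA_inv6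
    · exact actA_inv7
    · exact actA_inv8
    · exact actA_inv9
    · exact actA_inv10
    · exact actA_inv11
    · exact actA_inv12
    · exact actA_inv13
    · exact actA_inv14
    · exact actA_inv15
    · exact actA_inv16
    · exact actA_inv17
    · exact actA_inv18
    · exact actA_inv19
    · exact actA_inv20
    · exact actA_inv21
    · exact actA_inv22
    · exact actA_inv23
    · exact actA_inv24
    · exact actA_inv25
    · exact actA_inv26
    · exact actA_inv27
    · exact actA_inv28
    · exact actA_inv29
    · exact actA_inv30

end Cfsg.Agent.Spor.Cos.Fi23
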