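import Cfsg.Agent.Lib.Spor.Cos.Fi23.ActAData
import Cfsg.Agent.Lib.Spor.Cos.Fi23.Words

/-! Data and checks for a presented sporadic group. -/

set_option autoImplicit false
set_option maxRecDepth 100000
set_option maxHeartbeats 4000000

namespace Cfsg.Agent.Spor.Cos.Fi23

theorem actA_rels84 : allBlock (actA.chkFix words) 31671 256 84 = true := by decide +kernel

theorem actA_rels85 : allBlock (actA.chkFix words) 31671 256 85 = true := by decide +kernel

theorem actA_rels86 : allBlock (actA.chkFix words) 31671 256 86 = true := by decide +kernel

theorem actA_rels87 : allBlock (actA.chkFix words) 31671 256 87 = true := by decide +kernel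

theorem actA_rels88 : allBlock (actA.chkFix words) 31671 256 88 = true := by decide +kernel

theorem actA_rels89 : allBlock (actA.chkFix words) 31671 256 89 = true := by decide +kernel

theorem actA_rels90 : allBlock (actA.chkFix words) 31671 256 90 = true := by decide +kernel

theorem actA_rels91 : allBlock (actA.chkFix words) 31671 256 91 = true := by decide +kernel

theorem actA_rels92 : allBlock (actA.chkFix words) 31671 256 92 = true := by decide +kernel

theorem actA_rels93 : allBlock (actA.chkFix words) 31671 256 93 = true := by decide +kernel

theorem actA_rels94 : allBlock (actA.chkFix words) 31671 256 94 = true := by decide +kernel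

theorem actA_rels95 : allBlock (actA.chkFix words) 31671 256 95 = true := by decide +kernel


end Cfsg.Agent.Spor.Cos.Fi23
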