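import Cfsg.Agent.Lib.Spor.Cos.Fi23.ActAData
import Cfsg.Agent.Lib.Spor.Cos.Fi23.Words

/-! Data and checks for a presented sporadic group. -/

set_option autoImplicit false
set_option maxRecDepth 100000
set_option maxHeartbeats 4000000

namespace Cfsg.Agent.Spor.Cos.Fi23

theorem actA_rels108 : allBlock (actA.chkFix words) 31671 256 108 = true := by decide +kernel

theorem actA_rels109 : allBlock (actA.chkFix words) 31671 256 109 = true := by decide +kernel

theorem actA_rels110 : allBlock (actA.chkFix words) 31671 256 110 = true := by decide +kernel

theorem actA_rels111 : allBlock (actA.chkFix words) 31671 256 111 = true := by decide +kernel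

theorem actA_rels112 : allBlock (actA.chkFix words) 31671 256 112 = true := by decide +kernel

theorem actA_rels113 : allBlock (actA.chkFix words) 31671 256 113 = true := by decide +kernel

theorem actA_rels114 : allBlock (actA.chkFix words) 31671 256 114 = true := by decide +kernel

theorem actA_rels115 : allBlock (actA.chkFix words) 31671 256 115 = true := by decide +kernel

theorem actA_rels116 : allBlock (actA.chkFix words) 31671 256 116 = true := by decide +kernel

theorem actA_rels117 : allBlock (actA.chkFix words) 31671 256 117 = true := by decide +kernel

theorem actA_rels118 : allBlock (actA.chkFix words) 31671 256 118 = true := by decide +kernel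

theorem actA_rels119 : allBlock (actA.chkFix words) 31671 256 119 = true := by decide +kernel


end Cfsg.Agent.Spor.Cos.Fi23
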