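import Cfsg.Agent.Lib.Spor.Cos.Simple
import Cfsg.Agent.Lib.Spor.Cos.Fi23.ActA
import Cfsg.Agent.Lib.Spor.Cos.Fi23.Lv0
import Cfsg.Agent.Lib.Spor.Cos.Fi23.Lv1
import Cfsg.Agent.Lib.Spor.Cos.Fi23.Lv2
import Cfsg.Agent.Lib.Spor.Cos.Fi23.Lv3
import Cfsg.Agent.Lib.Spor.Cos.Fi23.Lv4
import Cfsg.Agent.Lib.Spor.Cos.Fi23.Lv5
import Cfsg.Agent.Lib.Spor.Cos.Fi23.Lv6
import Cfsg.Agent.Lib.Spor.Cos.Fi23.Lv7
import Cfsg.Agent.Lib.Spor.Cos.Fi23.Lv8

/-! Data and checks for a presented sporadic group. -/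

set_option autoImplicit false
set_option maxRecDepth 100000
set_option maxHeartbeats 4000000

open Cfsg.Spor

namespace Cfsg.Agent.Spor.Cos.Fi23

theorem lev_top : LevR g actA piA (singles (List.range 10)) 4089470473293004800 [0, 1, 2, 3, 4, 5, 6, 8, 9] ∧
    LevR g actA piA lv1W 129123503308800 [1, 2, 3, 4, 5, 6, 8, 9] := by
  have := finite
  have h9 : LevR g actA piA [] 1 [] := LevR.nil
  have h8 : LevR g actA piA lv8W 2 [9] :=
    LevR.step homA h9 lv8_ok (by decide +kernel) (by decide +kernel) (by decide +kernel)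
  have h7 : LevR g actA piA lv7W 6 [8, 9] :=
    LevR.step homA h8 lv7_ok (by decide +kernel) (by decide +kernel) (by decide +kernel)
  have h6 : LevR g actA piA lv6W 12 [6, 8, 9] :=
    LevR.step homA h7 lv6_ok (by decide +kernel) (by decide +kernel) (by decide +kernel)
  have h5 : LevR g actA piA lv5W 144 [5, 6, 8, 9] :=
    LevR.step homA h6 lv5_ok (by decide +kernel) (by decide +kernel) (by decide +kernel)
  have h4 : LevR g actA piA lv4W 5040 [4, 5, 6, 8, 9] :=
    LevR.step homA h5 lv4_ok (by decide +kernel) (by decide +kernel) (by decide +kernel)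
  have h3 : LevR g actA piA lv3W 1451520 [3, 4, 5, 6, 8, 9] :=
    LevR.step homA h4 lv3_ok (by decide +kernel) (by decide +kernel) (by decide +kernel)
  have h2 : LevR g actA piA lv2W 4585351680 [2, 3, 4, 5, 6, 8, 9] :=
    LevR.step homA h3 lv2_ok (by decide +kernel) (by decide +kernel) (by decide +kernel)
  have h1 : LevR g actA piA lv1W 129123503308800 [1, 2, 3, 4, 5, 6, 8, 9] :=
    LevR.step homA h2 lv1_ok (by decide +kernel) (by decide +kernel) (by decide +kernel)
  have h0 : LevR g actA piA (singles (List.range 10)) 4089470473293004800 [0, 1, 2, 3, 4, 5, 6, 8, 9] :=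
    LevR.step homA h1 lv0_ok (by decide +kernel) (by decide +kernel) (by decide +kernel)
  exact ⟨h0, h1⟩

theorem card_eq : Nat.card Spor.Fi23 = 4089470473293004800 := by
  have := finite
  exact (lev_top.1.top g_gen upper.2).1

theorem det (y : Spor.Fi23) (h : ∀ q : Fin actA.N, (q : ℕ) ∈ [0, 1, 2, 3, 4, 5, 6, 8, 9] → piA y q = q) : y = 1 := by
  have := finite
  exact (lev_top.1.top g_gen upper.2).2 y h

/-- The base point. -/
noncomputable def baseA : Fin actA.N := ⟨0, lv0_ok.root_lt⟩

theorem trA (p : Fin actA.N) : ∃ y : Spor.Fi23, piA y baseA = p := exists_apply_eq homA lv0_ok rfl p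

theorem stabA : val g lv1W = stab piA baseA := by
  have := finite
  exact val_eq_stab homA trA (k := 129123503308800) (by decide +kernel) (by decide +kernel) lev_top.2.le upper.2

end Cfsg.Agent.Spor.Cos.Fi23
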