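import Cfsg.Agent.Lib.Spor.Cos.Double
import Cfsg.Agent.Lib.Spor.Cos.Fi23.Order
import Cfsg.Agent.Lib.Spor.Cos.Fi22.Order
import Cfsg.Agent.Lib.Spor.Cos.Fi22.IsSimple

/-!
The subgroup generated by nine of the generators of Fi23 as a double cover of Fi22.
-/

set_option autoImplicit false
set_option maxRecDepth 100000

open Cfsg.Spor

namespace Cfsg.Agent.Spor.Cos.Fi23

/-- The nine letters. -/
def nine : List ℕ := [0, 1, 2, 3, 4, 5, 6, 8, 9]

theorem nine_mem {s : ℕ} (hs : s < 9) : g (nine.getD s 10) ∈ val g lv1W := by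
  have : [nine.getD s 10] ∈ lv1W := by interval_cases s <;> decide
  simpa [ev] using mem_val (g := g) this

/-- The nine generators inside their subgroup. -/
noncomputable def sub9 (s : ℕ) : val g lv1W := if hs : s < 9 then ⟨_, nine_mem hs⟩ else 1

theorem sub9_coe {s : ℕ} (hs : s < 9) : (sub9 s : Spor.Fi23) = g (nine.getD s 10) := by simp [sub9, hs]

theorem ev_sub9 : ∀ w : List ℕ, (∀ s ∈ w, s < 9) →
    ((ev sub9 w : val g lv1W) : Spor.Fi23) = ev g (w.map fun s => nine.getD s 10)
  | [], _ => rfl
  | s :: w, h => by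
    simp only [ev, List.map_cons, Subgroup.coe_mul, sub9_coe (h s (List.mem_cons_self ..)),
      ev_sub9 w fun t ht => h t (List.mem_cons_of_mem _ ht)]

/-- The word of the central involution. -/
def centralWord : List ℕ := (List.replicate 9 [1, 2, 3, 4, 5, 6, 7]).flatten

theorem eq_one_of_chk {w : List ℕ} (hl : Act.lettersOk 10 [w] = true)
    (h : chkPow actA [0, 1, 2, 3, 4, 5, 6, 8, 9] 1 w = true) : ev g w = 1 := by
  simpa using pow_eq_one homA det (Act.lt_of_lettersOk hl (List.mem_singleton_self w)) h

theorem sub9_eq_one {w : List ℕ} (hw : Act.lettersOk 9 [w] = true)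
    (hl : Act.lettersOk 10 [w.map fun s => nine.getD s 10] = true)
    (h : chkPow actA [0, 1, 2, 3, 4, 5, 6, 8, 9] 1 (w.map fun s => nine.getD s 10) = true) : ev sub9 w = 1 :=
  Subtype.ext ((ev_sub9 w (Act.lt_of_lettersOk hw (List.mem_singleton_self w))).trans (eq_one_of_chk hl h))

theorem centre_fi22 : Subgroup.center Spor.Fi22 = ⊥ := by
  have := Fi22.isSimple
  refine (IsSimpleGroup.eq_bot_or_eq_top_of_normal (Subgroup.center Spor.Fi22) inferInstance).resolve_right fun h => ?_
  have hn : ∀ y : Spor.Fi22, (Subgroup.zpowers y).Normal := fun y => ⟨fun a ha b => by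
    rw [Subgroup.mem_center_iff.1 (h ▸ Subgroup.mem_top a) b, mul_inv_cancel_right]; exact ha⟩
  by_cases h0 : Fi22.g 0 = 1
  · have := congrArg (fun p : Equiv.Perm (Fin Fi22.actA.N) => p Fi22.baseA)
      (show Fi22.piA (ev Fi22.g [0]) = 1 by simp [ev, h0])
    have e := Fi22.homA.apply_ev [0] (by decide) Fi22.baseA
    rw [this] at e
    have hne : Fi22.actA.go [0] 0 ≠ 0 := by decide +kernel
    exact hne e.symm
  · have ht := (IsSimpleGroup.eq_bot_or_eq_top_of_normal _ (hn (Fi22.g 0))).resolve_left fun hb =>
      h0 (Subgroup.zpowers_eq_bot.1 hb)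
    have hc : Nat.card (Subgroup.zpowers (Fi22.g 0)) = Nat.card Spor.Fi22 := by
      rw [ht]; exact Nat.card_congr Subgroup.topEquiv.toEquiv
    rw [Nat.card_zpowers, Fi22.card_eq] at hc
    have := Nat.le_of_dvd (by norm_num) (orderOf_dvd_of_pow_eq_one (x := Fi22.g 0) (n := 2)
      (by rw [pow_two, Fi22.g_sq]))
    omega

theorem isNonsplitDoubleCover : IsNonsplitDoubleCover (val g lv1W) Spor.Fi22 := by
  have := finite
  have hinv : ∀ s, sub9 s * sub9 s = 1 := fun s => by
    by_cases hs : s < 9
    · exact Subtype.ext (by simp [sub9_coe hs, g_sq])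
    · simp [sub9, hs]
  refine isNonsplitDoubleCover_of Fi22.pres ?_ centre_fi22 sub9 hinv (fun s hs => ?_) ?_
    (z := ev sub9 centralWord) ?_ ?_ (fun s hs => ?_) (fun w hw => ?_) (fun L hL => ?_)
  · show Nat.card (val g lv1W) = 2 * Nat.card Spor.Fi22
    rw [stabA, card_stab trA (k := 129123503308800) card_eq, Fi22.card_eq]
  · have : 9 ≤ s := hs
    simp [sub9, Nat.not_lt.2 this]
  · rw [← (Subgroup.map_injective (val g lv1W).subtype_injective).eq_iff, ← MonoidHom.range_eq_map,
      (val g lv1W).range_subtype, MonoidHom.map_closure]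
    show _ = Subgroup.closure {y | ∃ w ∈ lv1W, ev g w = y}
    congr 1
    ext y
    simp only [Set.mem_image, Set.mem_setOf_eq, Subgroup.coe_subtype]
    constructor
    · rintro ⟨x, ⟨i, hi, rfl⟩, rfl⟩
      have hi' : i < 9 := hi
      have hm : [nine.getD i 10] ∈ lv1W := by interval_cases i <;> decide
      exact ⟨_, hm, by simp [ev, sub9_coe hi']⟩
    · rintro ⟨w, hw, rfl⟩
      obtain ⟨i, hi, rfl⟩ := List.getElem_of_mem hw
      have hi' : i < 9 := hi
      refine ⟨_, ⟨i, hi', rfl⟩, ?_⟩
      rw [sub9_coe hi']
      interval_cases i <;> simp [lv1W, nine, ev]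
  · intro hz
    have e := homA.apply_ev (centralWord.map fun s => nine.getD s 10) (by decide +kernel) ⟨1, by decide +kernel⟩
    rw [← ev_sub9 centralWord (by decide +kernel), hz, Subgroup.coe_one, map_one] at e
    have hne : actA.go (centralWord.map fun s => nine.getD s 10) 1 ≠ 1 := by decide +kernel
    exact hne e.symm
  · rw [← ev_append]
    exact sub9_eq_one (by decide +kernel) (by decide +kernel) (by decide +kernel)
  · have hs' : s < 9 := hs
    have key : ev sub9 (centralWord ++ [s] ++ centralWord ++ [s]) = 1 := by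
      interval_cases s <;> exact sub9_eq_one (by decide +kernel) (by decide +kernel) (by decide +kernel)
    have hzz : ev sub9 (centralWord ++ centralWord) = 1 :=
      sub9_eq_one (by decide +kernel) (by decide +kernel) (by decide +kernel)
    simp only [ev_append, ev, mul_one] at key hzz
    calc ev sub9 centralWord * sub9 s
        = (sub9 s)⁻¹ * (ev sub9 centralWord)⁻¹ := by
          rw [← mul_inv_rev, eq_inv_iff_mul_eq_one, ← key]; group
      _ = sub9 s * ev sub9 centralWord := by
          rw [inv_eq_of_mul_eq_one_left hzz, inv_eq_of_mul_eq_one_left (hinv s)]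
  · by_cases hc : w = centralWord
    · exact Or.inr (hc ▸ rfl)
    · refine Or.inl (Subtype.ext ((ev_sub9 w ?_).trans ?_))
      · have hl : Act.lettersOk 9 Fi22.words = true := by decide +kernel
        exact Act.lt_of_lettersOk hl hw
      · have hd : (Fi22.words.all fun r => r == centralWord ||
            derivedOk 10 words (r.map fun s => nine.getD s 10)) = true := by decide +kernel
        have := List.all_eq_true.1 hd w hw
        simp only [beq_eq_false_iff_ne.2 hc, Bool.false_or] at this
        exact ev_derived (fun t _ => g_sq t) g_words this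
  · intro s hs
    have hs' : s < 9 := hs
    have e : ∀ x y, [x, y, x, y, x, y] ∈ Fi22.words → [x, y, x, y, x, y].map (fun s => nine.getD s 10) ∈ words →
        (sub9 x ∈ L ↔ sub9 y ∈ L) := fun x y h1 h2 => by
      have hl : Act.lettersOk 9 Fi22.words = true := by decide +kernel
      exact all_mem_of_index_two hL (Subtype.ext ((ev_sub9 _ (Act.lt_of_lettersOk hl h1)).trans (g_words _ h2)))
    have e01 := e 0 1 (by decide +kernel) (by decide +kernel)
    have e12 := e 1 2 (by decide +kernel) (by decide +kernel)
    have e23 := e 2 3 (by decide +kernel) (by decide +kernel)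
    have e34 := e 3 4 (by decide +kernel) (by decide +kernel)
    have e45 := e 4 5 (by decide +kernel) (by decide +kernel)
    have e56 := e 5 6 (by decide +kernel) (by decide +kernel)
    have e37 := e 3 7 (by decide +kernel) (by decide +kernel)
    have e78 := e 7 8 (by decide +kernel) (by decide +kernel)
    have all : ∀ t < 9, (sub9 t ∈ L ↔ sub9 0 ∈ L) := by
      intro t ht
      interval_cases t <;> tauto
    rw [all s hs']
    by_contra h0
    have hw : ev sub9 (List.replicate 9 [0, 1, 2, 3, 4, 5, 7]).flatten = 1 :=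
      sub9_eq_one (by decide +kernel) (by decide +kernel) (by decide +kernel)
    have := mem_of_index_two hL (h := sub9) _ (fun t ht => all t (by
      have hl : Act.lettersOk 9 [(List.replicate 9 [0, 1, 2, 3, 4, 5, 7]).flatten] = true := by decide +kernel
      exact Act.lt_of_lettersOk hl (List.mem_singleton_self _) t ht)) h0
    rw [hw] at this
    exact absurd (this.1 L.one_mem) (by decide)

end Cfsg.Agent.Spor.Cos.Fi23
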