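import Cfsg.Agent.Lib.Spor.Cos.Fi23.Sa1Data
import Cfsg.Agent.Lib.Spor.Cos.Fi23.ActAData

/-! Data and checks for a presented sporadic group. -/

set_option autoImplicit false
set_option maxRecDepth 100000
set_option maxHeartbeats 4000000

namespace Cfsg.Agent.Spor.Cos.Fi23

theorem sa1_closed12 : allBlock (sa1.chkClosed actA sa1W) 28160 512 12 = true := by decide +kernel

theorem sa1_closed13 : allBlock (sa1.chkClosed actA sa1W) 28160 512 13 = true := by decide +kernel

theorem sa1_closed14 : allBlock (sa1.chkClosed actA sa1W) 28160 512 14 = true := by decide +kernel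

theorem sa1_closed15 : allBlock (sa1.chkClosed actA sa1W) 28160 512 15 = true := by decide +kernel

theorem sa1_closed16 : allBlock (sa1.chkClosed actA sa1W) 28160 512 16 = true := by decide +kernel

theorem sa1_closed17 : allBlock (sa1.chkClosed actA sa1W) 28160 512 17 = true := by decide +kernel

theorem sa1_closed18 : allBlock (sa1.chkClosed actA sa1W) 28160 512 18 = true := by decide +kernel

theorem sa1_closed19 : allBlock (sa1.chkClosed actA sa1W) 28160 512 19 = true := by decide +kernel

theorem sa1_closed20 : allBlock (sa1.chkClosed actA sa1W) 28160 512 20 = true := by decide +kernel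

theorem sa1_closed21 : allBlock (sa1.chkClosed actA sa1W) 28160 512 21 = true := by decide +kernel

theorem sa1_closed22 : allBlock (sa1.chkClosed actA sa1W) 28160 512 22 = true := by decide +kernel

theorem sa1_closed23 : allBlock (sa1.chkClosed actA sa1W) 28160 512 23 = true := by decide +kernel


end Cfsg.Agent.Spor.Cos.Fi23
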