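import Cfsg.Agent.Lib.Spor.Cos.Fi23.Sa1Data
import Cfsg.Agent.Lib.Spor.Cos.Fi23.ActAData

/-! Data and checks for a presented sporadic group. -/

set_option autoImplicit false
set_option maxRecDepth 100000
set_option maxHeartbeats 4000000

namespace Cfsg.Agent.Spor.Cos.Fi23

theorem sa1_closed24 : allBlock (sa1.chkClosed actA sa1W) 28160 512 24 = true := by decide +kernel

theorem sa1_closed25 : allBlock (sa1.chkClosed actA sa1W) 28160 512 25 = true := by decide +kernel

theorem sa1_closed26 : allBlock (sa1.chkClosed actA sa1W) 28160 512 26 = true := by decide +kernel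

theorem sa1_closed27 : allBlock (sa1.chkClosed actA sa1W) 28160 512 27 = true := by decide +kernel

theorem sa1_closed28 : allBlock (sa1.chkClosed actA sa1W) 28160 512 28 = true := by decide +kernel

theorem sa1_closed29 : allBlock (sa1.chkClosed actA sa1W) 28160 512 29 = true := by decide +kernel

theorem sa1_closed30 : allBlock (sa1.chkClosed actA sa1W) 28160 512 30 = true := by decide +kernel

theorem sa1_closed31 : allBlock (sa1.chkClosed actA sa1W) 28160 512 31 = true := by decide +kernel

theorem sa1_closed32 : allBlock (sa1.chkClosed actA sa1W) 28160 512 32 = true := by decide +kernel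

theorem sa1_closed33 : allBlock (sa1.chkClosed actA sa1W) 28160 512 33 = true := by decide +kernel

theorem sa1_closed34 : allBlock (sa1.chkClosed actA sa1W) 28160 512 34 = true := by decide +kernel

theorem sa1_closed35 : allBlock (sa1.chkClosed actA sa1W) 28160 512 35 = true := by decide +kernel


end Cfsg.Agent.Spor.Cos.Fi23
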