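import Cfsg.Agent.Lib.Spor.Cos.Fi23.Sa1Data
import Cfsg.Agent.Lib.Spor.Cos.Fi23.ActAData

/-! Data and checks for a presented sporadic group. -/

set_option autoImplicit false
set_option maxRecDepth 100000
set_option maxHeartbeats 4000000

namespace Cfsg.Agent.Spor.Cos.Fi23

theorem sa1_closed36 : allBlock (sa1.chkClosed actA sa1W) 28160 512 36 = true := by decide +kernel

theorem sa1_closed37 : allBlock (sa1.chkClosed actA sa1W) 28160 512 37 = true := by decide +kernel

theorem sa1_closed38 : allBlock (sa1.chkClosed actA sa1W) 28160 512 38 = true := by decide +kernel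

theorem sa1_closed39 : allBlock (sa1.chkClosed actA sa1W) 28160 512 39 = true := by decide +kernel

theorem sa1_closed40 : allBlock (sa1.chkClosed actA sa1W) 28160 512 40 = true := by decide +kernel

theorem sa1_closed41 : allBlock (sa1.chkClosed actA sa1W) 28160 512 41 = true := by decide +kernel

theorem sa1_closed42 : allBlock (sa1.chkClosed actA sa1W) 28160 512 42 = true := by decide +kernel

theorem sa1_closed43 : allBlock (sa1.chkClosed actA sa1W) 28160 512 43 = true := by decide +kernel

theorem sa1_closed44 : allBlock (sa1.chkClosed actA sa1W) 28160 512 44 = true := by decide +kernel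

theorem sa1_closed45 : allBlock (sa1.chkClosed actA sa1W) 28160 512 45 = true := by decide +kernel

theorem sa1_closed46 : allBlock (sa1.chkClosed actA sa1W) 28160 512 46 = true := by decide +kernel

theorem sa1_closed47 : allBlock (sa1.chkClosed actA sa1W) 28160 512 47 = true := by decide +kernel


end Cfsg.Agent.Spor.Cos.Fi23
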