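import Cfsg.Agent.Lib.Spor.Cos.Fi23.Sa1Data
import Cfsg.Agent.Lib.Spor.Cos.Fi23.ActAData

/-! Data and checks for a presented sporadic group. -/

set_option autoImplicit false
set_option maxRecDepth 100000
set_option maxHeartbeats 4000000

namespace Cfsg.Agent.Spor.Cos.Fi23

theorem sa1_closed48 : allBlock (sa1.chkClosed actA sa1W) 28160 512 48 = true := by decide +kernel

theorem sa1_closed49 : allBlock (sa1.chkClosed actA sa1W) 28160 512 49 = true := by decide +kernel

theorem sa1_closed50 : allBlock (sa1.chkClosed actA sa1W) 28160 512 50 = true := by decide +kernel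

theorem sa1_closed51 : allBlock (sa1.chkClosed actA sa1W) 28160 512 51 = true := by decide +kernel

theorem sa1_closed52 : allBlock (sa1.chkClosed actA sa1W) 28160 512 52 = true := by decide +kernel

theorem sa1_closed53 : allBlock (sa1.chkClosed actA sa1W) 28160 512 53 = true := by decide +kernel

theorem sa1_closed54 : allBlock (sa1.chkClosed actA sa1W) 28160 512 54 = true := by decide +kernel


end Cfsg.Agent.Spor.Cos.Fi23
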