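import Cfsg.Agent.Lib.Spor.Cos.Fi23.Sa1Closed0
import Cfsg.Agent.Lib.Spor.Cos.Fi23.Sa1Closed1
import Cfsg.Agent.Lib.Spor.Cos.Fi23.Sa1Closed2
import Cfsg.Agent.Lib.Spor.Cos.Fi23.Sa1Closed3
import Cfsg.Agent.Lib.Spor.Cos.Fi23.Sa1Closed4

/-! Data and checks for a presented sporadic group. -/

set_option autoImplicit false
set_option maxRecDepth 100000
set_option maxHeartbeats 4000000

namespace Cfsg.Agent.Spor.Cos.Fi23

theorem sa1_closed : ∀ i < 28160, (sa1.chkClosed actA sa1W) i = true :=
  of_blocks (size := 512) (b := 55) (by decide) (by decide) fun j hj => by
    interval_cases j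
    · exact sa1_closed0
    · exact sa1_closed1
    · exact sa1_closed2
    · exact sa1_closed3
    · exact sa1_closed4
    · exact sa1_closed5
    · exact sa1_closed6
    · exact sa1_closed7
    · exact sa1_closed8
    · exact sa1_closed9
    · exact sa1_closed10
    · exact sa1_closed11
    · exact sa1_closed12
    · exact sa1_closed13
    · exact sa1_closed14
    · exact sa1_closed15
    · exact sa1_closed16
    · exact sa1_closed17
    · exact sa1_closed18
    · exact sa1_closed19
    · exact sa1_closed20
    · exact sa1_closed21
    · exact sa1_closed22
    · exact sa1_closed23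
    · exact sa1_closed24
    · exact sa1_closed25
    · exact sa1_closed26
    · exact sa1_closed27
    · exact sa1_closed28
    · exact sa1_closed29
    · exact sa1_closed30
    · exact sa1_closed31
    · exact sa1_closed32
    · exact sa1_closed33
    · exact sa1_closed34
    · exact sa1_closed35
    · exact sa1_closed36
    · exact sa1_closed37
    · exact sa1_closed38
    · exact sa1_closed39
    · exact sa1_closed40
    · exact sa1_closed41
    · exact sa1_closed42
    · exact sa1_closed43
    · exact sa1_closed44
    · exact sa1_closed45
    · exact sa1_closed46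
    · exact sa1_closed47
    · exact sa1_closed48
    · exact sa1_closed49
    · exact sa1_closed50
    · exact sa1_closed51
    · exact sa1_closed52
    · exact sa1_closed53
    · exact sa1_closed54

end Cfsg.Agent.Spor.Cos.Fi23
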