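import Cfsg.Agent.Lib.Spor.Cos.Fi23.Sa1Ent
import Cfsg.Agent.Lib.Spor.Cos.Fi23.Sa1Closed

/-! Data and checks for a presented sporadic group. -/

set_option autoImplicit false
set_option maxRecDepth 100000
set_option maxHeartbeats 4000000

namespace Cfsg.Agent.Spor.Cos.Fi23

theorem sa1_ok : sa1.Ok actA sa1W 1 where
  letters := by decide +kernel
  pos := by decide +kernel
  ents := sa1_ents

end Cfsg.Agent.Spor.Cos.Fi23
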