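import Cfsg.Agent.Lib.Spor.Cos.Simple
import Cfsg.Agent.Lib.Spor.Cos.Fi23.SaList
import Cfsg.Agent.Lib.Spor.Cos.Fi23.ActAData

/-! Data and checks for a presented sporadic group. -/

set_option autoImplicit false
set_option maxRecDepth 100000
set_option maxHeartbeats 4000000

namespace Cfsg.Agent.Spor.Cos.Fi23

theorem sa_partition16 : allBlock (chkPartition saList 0) 31671 1024 16 = true := by decide +kernel

theorem sa_partition17 : allBlock (chkPartition saList 0) 31671 1024 17 = true := by decide +kernel

theorem sa_partition18 : allBlock (chkPartition saList 0) 31671 1024 18 = true := by decide +kernel

theorem sa_partition19 : allBlock (chkPartition saList 0) 31671 1024 19 = true := by decide +kernel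

theorem sa_partition20 : allBlock (chkPartition saList 0) 31671 1024 20 = true := by decide +kernel

theorem sa_partition21 : allBlock (chkPartition saList 0) 31671 1024 21 = true := by decide +kernel

theorem sa_partition22 : allBlock (chkPartition saList 0) 31671 1024 22 = true := by decide +kernel

theorem sa_partition23 : allBlock (chkPartition saList 0) 31671 1024 23 = true := by decide +kernel

theorem sa_partition24 : allBlock (chkPartition saList 0) 31671 1024 24 = true := by decide +kernel

theorem sa_partition25 : allBlock (chkPartition saList 0) 31671 1024 25 = true := by decide +kernel

theorem sa_partition26 : allBlock (chkPartition saList 0) 31671 1024 26 = true := by decide +kernel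

theorem sa_partition27 : allBlock (chkPartition saList 0) 31671 1024 27 = true := by decide +kernel

theorem sa_partition28 : allBlock (chkPartition saList 0) 31671 1024 28 = true := by decide +kernel

theorem sa_partition29 : allBlock (chkPartition saList 0) 31671 1024 29 = true := by decide +kernel

theorem sa_partition30 : allBlock (chkPartition saList 0) 31671 1024 30 = true := by decide +kernel


end Cfsg.Agent.Spor.Cos.Fi23
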