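import Cfsg.Agent.Lib.Spor.Cos.Fi23.Cover
import Cfsg.Agent.Lib.Spor.Cos.Fi23.IsSimple
import Cfsg.Prelude.Def_Sporadic

/-!
The transpositions of Fi23.
-/

set_option autoImplicit false
set_option maxRecDepth 100000

open Cfsg.Spor

namespace Cfsg.Agent.Spor.Cos.Fi23

/-- The transposition centralised by the point stabiliser. -/
noncomputable def tz : Spor.Fi23 := ev g (centralWord.map fun s => nine.getD s 10)

/-- The two suborbit representatives as words. -/
def repWord : ℕ → List ℕ
  | 378 => [9, 7, 6, 5, 4, 3, 8, 1, 2, 3, 4, 5, 6, 7]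
  | _ => [7]

/-- The product of a conjugate transposition with the transposition. -/
def pairWord (r : ℕ) : List ℕ :=
  repWord r ++ centralWord.map (fun s => nine.getD s 10) ++ (repWord r).reverse ++
    centralWord.map (fun s => nine.getD s 10)

theorem ev_pairWord (r : ℕ) (hl : ∀ s ∈ repWord r, s < 10) :
    ev g (pairWord r) = ev g (repWord r) * tz * (ev g (repWord r))⁻¹ * tz := by
  rw [pairWord, ev_append, ev_append, ev_append, ev_reverse (fun s _ => g_sq s) _ hl]
  rfl

theorem tz_mem : tz ∈ val g lv1W := by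
  rw [tz, ← ev_sub9 centralWord (by decide +kernel)]
  exact Subtype.prop _

theorem tz_sq : tz * tz = 1 := by
  rw [tz, ← ev_append]
  exact eq_one_of_chk (by decide +kernel) (by decide +kernel)

theorem tz_comm : ∀ y ∈ val g lv1W, y * tz = tz * y := by
  intro y hy
  have hle : val g lv1W ≤ Subgroup.centralizer {tz} := by
    refine (Subgroup.closure_le _).2 ?_
    rintro _ ⟨w, hw, rfl⟩
    refine Subgroup.mem_centralizer_singleton_iff.2 ?_
    have key : ev g (w ++ centralWord.map (fun s => nine.getD s 10) ++ w ++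
        centralWord.map (fun s => nine.getD s 10)) = 1 := by
      simp only [lv1W, List.mem_cons, List.not_mem_nil, or_false] at hw
      rcases hw with rfl | rfl | rfl | rfl | rfl | rfl | rfl | rfl | rfl <;>
        exact eq_one_of_chk (by decide +kernel) (by decide +kernel)
    have hww : ev g w * ev g w = 1 := by
      simp only [lv1W, List.mem_cons, List.not_mem_nil, or_false] at hw
      rcases hw with rfl | rfl | rfl | rfl | rfl | rfl | rfl | rfl | rfl <;> simp [ev, g_sq]
    simp only [ev_append] at key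
    calc ev g w * tz = tz⁻¹ * (ev g w)⁻¹ := by
          rw [← mul_inv_rev, eq_inv_iff_mul_eq_one, ← key]; simp [tz, mul_assoc]
      _ = tz * ev g w := by rw [inv_eq_of_mul_eq_one_left tz_sq, inv_eq_of_mul_eq_one_left hww]
  exact Subgroup.mem_centralizer_singleton_iff.1 (hle hy)

theorem mem_val_iff {y : Spor.Fi23} : y ∈ val g lv1W ↔ piA y baseA = baseA := by rw [stabA, mem_stab]

/-- Double cosets of the point stabiliser. -/
theorem cases_double (c : Spor.Fi23) : c ∈ val g lv1W ∨ ∃ r ∈ [378, 1], ∃ h ∈ val g lv1W, ∃ h' ∈ val g lv1W,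
    c = h * ev g (repWord r) * h' := by
  by_cases hc : piA c baseA = baseA
  · exact Or.inl (mem_val_iff.2 hc)
  right
  set p := piA c baseA with hp
  have h0 := sa_partition p p.2
  have hne : Nat.beq (p : ℕ) 0 = false :=
    Bool.eq_false_iff.2 fun e => hc (Fin.ext (Nat.eq_of_beq_eq_true e))
  simp only [chkPartition, hne, Bool.cond_false] at h0
  obtain ⟨o, ho, hmem⟩ := List.countP_pos_iff.1 (Nat.lt_of_lt_of_eq one_pos (Nat.eq_of_beq_eq_true h0).symm)
  obtain ⟨hO, -⟩ := saList_ok o ho
  obtain ⟨h, hh, e⟩ := hO.mem_orbit homA ⟨o.2, hO.root_lt⟩ rfl hmem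
  have hr : o.2 = 378 ∨ o.2 = 1 := by
    simp only [saList, List.mem_cons, List.not_mem_nil, or_false] at ho
    rcases ho with rfl | rfl <;> simp
  refine ⟨o.2, by simpa using hr, h, hh, (h * ev g (repWord o.2))⁻¹ * c, ?_, by group⟩
  have e2 : piA (ev g (repWord o.2)) baseA = ⟨o.2, hO.root_lt⟩ := by
    apply Fin.ext
    rcases hr with hr | hr <;> simp only [hr] <;>
      exact (homA.apply_ev _ (by decide +kernel) baseA).trans (show actA.go _ 0 = _ by decide +kernel)
  rw [mem_val_iff, map_mul, map_inv, Equiv.Perm.mul_apply, Equiv.Perm.inv_eq_iff_eq, map_mul,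
    Equiv.Perm.mul_apply, e2, e]

theorem prod_pow (c : Spor.Fi23) : (c * tz * c⁻¹ * tz) ^ 2 = 1 ∨ (c * tz * c⁻¹ * tz) ^ 3 = 1 := by
  rcases cases_double c with hc | ⟨r, hr, h, hh, h', hh', rfl⟩
  · left; rw [tz_comm c hc, mul_inv_cancel_right, tz_sq, one_pow]
  · have e : h * ev g (repWord r) * h' * tz * (h * ev g (repWord r) * h')⁻¹ * tz =
        h * (ev g (repWord r) * tz * (ev g (repWord r))⁻¹ * tz) * h⁻¹ := by
      calc _ = h * ev g (repWord r) * (h' * tz) * h'⁻¹ * (ev g (repWord r))⁻¹ * (h⁻¹ * tz) := by group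
        _ = _ := by rw [tz_comm h' hh', tz_comm h⁻¹ (inv_mem hh)]; group
    have hl : ∀ s ∈ repWord r, s < 10 := by
      simp only [List.mem_cons, List.not_mem_nil, or_false] at hr
      rcases hr with rfl | rfl <;> decide
    rw [e, conj_pow, conj_pow, conj_eq_one_iff, conj_eq_one_iff, ← ev_pairWord r hl, ← ev_power, ← ev_power]
    simp only [List.mem_cons, List.not_mem_nil, or_false] at hr
    rcases hr with rfl | rfl
    · exact Or.inl (eq_one_of_chk (by decide +kernel) (by decide +kernel))
    · exact Or.inr (eq_one_of_chk (by decide +kernel) (by decide +kernel))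

theorem centralizer_tz : Subgroup.centralizer {tz} = val g lv1W := by
  refine le_antisymm (fun y hy => ?_) fun y hy => Subgroup.mem_centralizer_singleton_iff.2 (tz_comm y hy)
  rcases cases_double y with hc | ⟨r, hr, h, hh, h', hh', rfl⟩
  · exact hc
  exfalso
  have hC : val g lv1W ≤ Subgroup.centralizer {tz} :=
    fun y hy => Subgroup.mem_centralizer_singleton_iff.2 (tz_comm y hy)
  rw [(Subgroup.centralizer {tz}).mul_mem_cancel_right (hC hh'),
    (Subgroup.centralizer {tz}).mul_mem_cancel_left (hC hh), Subgroup.mem_centralizer_singleton_iff] at hy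
  have hl : ∀ s ∈ repWord r, s < 10 := by
    simp only [List.mem_cons, List.not_mem_nil, or_false] at hr
    rcases hr with rfl | rfl <;> decide
  have h1 : ev g (pairWord r) = 1 := by rw [ev_pairWord r hl, hy, mul_inv_cancel_right, tz_sq]
  simp only [List.mem_cons, List.not_mem_nil, or_false] at hr
  rcases hr with rfl | rfl
  · have e := homA.apply_ev (pairWord 378) (by decide +kernel) ⟨1, by decide +kernel⟩
    rw [h1, map_one] at e
    have hne : actA.go (pairWord 378) 1 ≠ 1 := by decide +kernel
    exact hne e.symm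
  · have e := homA.apply_ev (pairWord 1) (by decide +kernel) ⟨0, by decide +kernel⟩
    rw [h1, map_one] at e
    have hne : actA.go (pairWord 1) 0 ≠ 0 := by decide +kernel
    exact hne e.symm

theorem orderOf_tz : orderOf tz = 2 := by
  refine orderOf_eq_prime (by rw [pow_two, tz_sq]) fun h => ?_
  have e := homA.apply_ev (centralWord.map fun s => nine.getD s 10) (by decide +kernel) ⟨1, by decide +kernel⟩
  rw [show ev g (centralWord.map fun s => nine.getD s 10) = 1 from h, map_one] at e
  have hne : actA.go (centralWord.map fun s => nine.getD s 10) 1 ≠ 1 := by decide +kernel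
  exact hne e.symm

theorem isThreeTranspositionClass : IsThreeTranspositionClass (conjugatesOf tz) := by
  refine ⟨⟨?_, ?_⟩, ⟨tz, mem_conjugatesOf_self, rfl⟩, ?_⟩
  · intro d hd
    obtain ⟨a, rfl⟩ := isConj_iff.1 (show IsConj tz _ from hd)
    rw [← MulAut.conj_apply, MulEquiv.orderOf_eq, orderOf_tz]
  · intro d hd e he
    obtain ⟨a, rfl⟩ := isConj_iff.1 (show IsConj tz _ from hd)
    obtain ⟨b, rfl⟩ := isConj_iff.1 (show IsConj tz _ from he)
    have hrw : a * tz * a⁻¹ * (b * tz * b⁻¹) = b * ((b⁻¹ * a) * tz * (b⁻¹ * a)⁻¹ * tz) * b⁻¹ := by group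
    rw [hrw, conj_pow, conj_pow, conj_eq_one_iff, conj_eq_one_iff]
    exact prod_pow _
  · have := isSimple
    have e : Subgroup.normalClosure {tz} = Subgroup.closure (conjugatesOf tz) := by
      rw [Subgroup.normalClosure, Group.conjugatesOfSet, Set.biUnion_singleton]
    rw [← e]
    refine (IsSimpleGroup.eq_bot_or_eq_top_of_normal _ Subgroup.normalClosure_normal).resolve_left fun hb => ?_
    have h1 : tz = 1 := by
      rw [← Subgroup.mem_bot, ← hb]
      exact Subgroup.subset_normalClosure rfl
    have := orderOf_tz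
    rw [h1, orderOf_one] at this
    omega

theorem card_class : Nat.card (conjugatesOf tz) = 31671 := by
  let f : Spor.Fi23 ⧸ Subgroup.centralizer {tz} → conjugatesOf tz :=
    Quotient.lift (fun a => ⟨a * tz * a⁻¹, show IsConj tz _ from (isConj_iff.2 ⟨a, rfl⟩)⟩) fun a b h => by
      refine Subtype.ext ?_
      have h' := Subgroup.mem_centralizer_singleton_iff.1 (QuotientGroup.leftRel_apply.1 h)
      calc a * tz * a⁻¹ = a * (tz * (a⁻¹ * b)) * b⁻¹ := by group
        _ = b * tz * b⁻¹ := by rw [← h']; group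
  have hf : Function.Bijective f := by
    refine ⟨fun u v => ?_, fun d => ?_⟩
    · induction u using QuotientGroup.induction_on with
      | _ a => induction v using QuotientGroup.induction_on with
        | _ b =>
          intro h
          have h' : a * tz * a⁻¹ = b * tz * b⁻¹ := congrArg Subtype.val h
          refine QuotientGroup.eq.2 (Subgroup.mem_centralizer_singleton_iff.2 ?_)
          calc a⁻¹ * b * tz = a⁻¹ * (b * tz * b⁻¹) * b := by group
            _ = tz * (a⁻¹ * b) := by rw [← h']; group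
    · obtain ⟨a, ha⟩ := isConj_iff.1 (show IsConj tz _ from d.2)
      exact ⟨QuotientGroup.mk a, Subtype.ext ha⟩
  rw [← Nat.card_eq_of_bijective f hf, ← Subgroup.index, centralizer_tz, stabA]
  exact index_stab trA

theorem centralizer_conj {d : Spor.Fi23} (hd : d ∈ conjugatesOf tz) :
    IsNonsplitDoubleCover (Subgroup.centralizer ({d} : Set Spor.Fi23)) Spor.Fi22 := by
  obtain ⟨a, rfl⟩ := isConj_iff.1 (show IsConj tz _ from hd)
  have h : (Subgroup.centralizer {tz}).map ((MulAut.conj a : Spor.Fi23 ≃* Spor.Fi23) : Spor.Fi23 →* Spor.Fi23) = Subgroup.centralizer {a * tz * a⁻¹} := by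
    ext y
    rw [Subgroup.map_equiv_eq_comap_symm, Subgroup.mem_comap, Subgroup.mem_centralizer_singleton_iff,
      Subgroup.mem_centralizer_singleton_iff]
    show a⁻¹ * y * a * tz = tz * (a⁻¹ * y * a) ↔ _
    rw [← mul_left_inj a⁻¹, ← mul_right_inj a]
    simp [mul_assoc]
  rw [centralizer_tz] at h
  rw [← h]
  exact isNonsplitDoubleCover_congr ((MulAut.conj a).subgroupMap (val g lv1W)) isNonsplitDoubleCover

theorem exists_threeTransposition : ∃ (G : Type) (_ : Group G) (_ : Finite G), Cfsg.IsFi23 G ∧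
    ∃ D : Set G, Cfsg.IsThreeTranspositionClass D ∧ Nat.card D = 31671 ∧ ∀ d ∈ D,
      ∃ (K : Type) (_ : Group K), Cfsg.IsFi22 K ∧ Cfsg.IsNonsplitDoubleCover (Subgroup.centralizer ({d} : Set G)) K :=
  ⟨Spor.Fi23, inferInstance, finite, ⟨isSimple, card_eq⟩, conjugatesOf tz, isThreeTranspositionClass, card_class,
    fun _ hd => ⟨Spor.Fi22, inferInstance, ⟨Fi22.isSimple, Fi22.card_eq⟩, centralizer_conj hd⟩⟩

end Cfsg.Agent.Spor.Cos.Fi23
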