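import Cfsg.Agent.Lib.Spor.Cos.Fi23.Lv0Data
import Cfsg.Agent.Lib.Spor.Cos.Fi23.ActAData

/-! Data and checks for a presented sporadic group. -/

set_option autoImplicit false
set_option maxRecDepth 100000
set_option maxHeartbeats 4000000

namespace Cfsg.Agent.Spor.Cos.Fi23

theorem lv0_ents48 : allBlock (lv0.chkEnt actA lv0W 0) 31671 512 48 = true := by decide +kernel

theorem lv0_ents49 : allBlock (lv0.chkEnt actA lv0W 0) 31671 512 49 = true := by decide +kernel

theorem lv0_ents50 : allBlock (lv0.chkEnt actA lv0W 0) 31671 512 50 = true := by decide +kernel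

theorem lv0_ents51 : allBlock (lv0.chkEnt actA lv0W 0) 31671 512 51 = true := by decide +kernel

theorem lv0_ents52 : allBlock (lv0.chkEnt actA lv0W 0) 31671 512 52 = true := by decide +kernel

theorem lv0_ents53 : allBlock (lv0.chkEnt actA lv0W 0) 31671 512 53 = true := by decide +kernel

theorem lv0_ents54 : allBlock (lv0.chkEnt actA lv0W 0) 31671 512 54 = true := by decide +kernel

theorem lv0_ents55 : allBlock (lv0.chkEnt actA lv0W 0) 31671 512 55 = true := by decide +kernel

theorem lv0_ents56 : allBlock (lv0.chkEnt actA lv0W 0) 31671 512 56 = true := by decide +kernel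

theorem lv0_ents57 : allBlock (lv0.chkEnt actA lv0W 0) 31671 512 57 = true := by decide +kernel

theorem lv0_ents58 : allBlock (lv0.chkEnt actA lv0W 0) 31671 512 58 = true := by decide +kernel

theorem lv0_ents59 : allBlock (lv0.chkEnt actA lv0W 0) 31671 512 59 = true := by decide +kernel

theorem lv0_ents60 : allBlock (lv0.chkEnt actA lv0W 0) 31671 512 60 = true := by decide +kernel

theorem lv0_ents61 : allBlock (lv0.chkEnt actA lv0W 0) 31671 512 61 = true := by decide +kernel


end Cfsg.Agent.Spor.Cos.Fi23
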