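import Cfsg.Agent.Lib.Spor.Cos.Fi23.Lv0Data
import Cfsg.Agent.Lib.Spor.Cos.Fi23.ActAData

/-! Data and checks for a presented sporadic group. -/

set_option autoImplicit false
set_option maxRecDepth 100000
set_option maxHeartbeats 4000000

namespace Cfsg.Agent.Spor.Cos.Fi23

theorem lv0_ents0 : allBlock (lv0.chkEnt actA lv0W 0) 31671 512 0 = true := by decide +kernel

theorem lv0_ents1 : allBlock (lv0.chkEnt actA lv0W 0) 31671 512 1 = true := by decide +kernel

theorem lv0_ents2 : allBlock (lv0.chkEnt actA lv0W 0) 31671 512 2 = true := by decide +kernel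

theorem lv0_ents3 : allBlock (lv0.chkEnt actA lv0W 0) 31671 512 3 = true := by decide +kernel

theorem lv0_ents4 : allBlock (lv0.chkEnt actA lv0W 0) 31671 512 4 = true := by decide +kernel

theorem lv0_ents5 : allBlock (lv0.chkEnt actA lv0W 0) 31671 512 5 = true := by decide +kernel

theorem lv0_ents6 : allBlock (lv0.chkEnt actA lv0W 0) 31671 512 6 = true := by decide +kernel

theorem lv0_ents7 : allBlock (lv0.chkEnt actA lv0W 0) 31671 512 7 = true := by decide +kernel

theorem lv0_ents8 : allBlock (lv0.chkEnt actA lv0W 0) 31671 512 8 = true := by decide +kernel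

theorem lv0_ents9 : allBlock (lv0.chkEnt actA lv0W 0) 31671 512 9 = true := by decide +kernel

theorem lv0_ents10 : allBlock (lv0.chkEnt actA lv0W 0) 31671 512 10 = true := by decide +kernel

theorem lv0_ents11 : allBlock (lv0.chkEnt actA lv0W 0) 31671 512 11 = true := by decide +kernel

theorem lv0_ents12 : allBlock (lv0.chkEnt actA lv0W 0) 31671 512 12 = true := by decide +kernel

theorem lv0_ents13 : allBlock (lv0.chkEnt actA lv0W 0) 31671 512 13 = true := by decide +kernel

theorem lv0_ents14 : allBlock (lv0.chkEnt actA lv0W 0) 31671 512 14 = true := by decide +kernel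

theorem lv0_ents15 : allBlock (lv0.chkEnt actA lv0W 0) 31671 512 15 = true := by decide +kernel

theorem lv0_ents16 : allBlock (lv0.chkEnt actA lv0W 0) 31671 512 16 = true := by decide +kernel

theorem lv0_ents17 : allBlock (lv0.chkEnt actA lv0W 0) 31671 512 17 = true := by decide +kernel

theorem lv0_ents18 : allBlock (lv0.chkEnt actA lv0W 0) 31671 512 18 = true := by decide +kernel

theorem lv0_ents19 : allBlock (lv0.chkEnt actA lv0W 0) 31671 512 19 = true := by decide +kernel

theorem lv0_ents20 : allBlock (lv0.chkEnt actA lv0W 0) 31671 512 20 = true := by decide +kernel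

theorem lv0_ents21 : allBlock (lv0.chkEnt actA lv0W 0) 31671 512 21 = true := by decide +kernel

theorem lv0_ents22 : allBlock (lv0.chkEnt actA lv0W 0) 31671 512 22 = true := by decide +kernel

theorem lv0_ents23 : allBlock (lv0.chkEnt actA lv0W 0) 31671 512 23 = true := by decide +kernel


end Cfsg.Agent.Spor.Cos.Fi23
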