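import Cfsg.Agent.Lib.Spor.Cos.Fi23.Lv1Data
import Cfsg.Agent.Lib.Spor.Cos.Fi23.ActAData

/-! Data and checks for a presented sporadic group. -/

set_option autoImplicit false
set_option maxRecDepth 100000
set_option maxHeartbeats 4000000

namespace Cfsg.Agent.Spor.Cos.Fi23

theorem lv1_ents24 : allBlock (lv1.chkEnt actA lv1W 1) 28160 512 24 = true := by decide +kernel

theorem lv1_ents25 : allBlock (lv1.chkEnt actA lv1W 1) 28160 512 25 = true := by decide +kernel

theorem lv1_ents26 : allBlock (lv1.chkEnt actA lv1W 1) 28160 512 26 = true := by decide +kernel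

theorem lv1_ents27 : allBlock (lv1.chkEnt actA lv1W 1) 28160 512 27 = true := by decide +kernel

theorem lv1_ents28 : allBlock (lv1.chkEnt actA lv1W 1) 28160 512 28 = true := by decide +kernel

theorem lv1_ents29 : allBlock (lv1.chkEnt actA lv1W 1) 28160 512 29 = true := by decide +kernel

theorem lv1_ents30 : allBlock (lv1.chkEnt actA lv1W 1) 28160 512 30 = true := by decide +kernel

theorem lv1_ents31 : allBlock (lv1.chkEnt actA lv1W 1) 28160 512 31 = true := by decide +kernel

theorem lv1_ents32 : allBlock (lv1.chkEnt actA lv1W 1) 28160 512 32 = true := by decide +kernel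

theorem lv1_ents33 : allBlock (lv1.chkEnt actA lv1W 1) 28160 512 33 = true := by decide +kernel

theorem lv1_ents34 : allBlock (lv1.chkEnt actA lv1W 1) 28160 512 34 = true := by decide +kernel

theorem lv1_ents35 : allBlock (lv1.chkEnt actA lv1W 1) 28160 512 35 = true := by decide +kernel

theorem lv1_ents36 : allBlock (lv1.chkEnt actA lv1W 1) 28160 512 36 = true := by decide +kernel

theorem lv1_ents37 : allBlock (lv1.chkEnt actA lv1W 1) 28160 512 37 = true := by decide +kernel

theorem lv1_ents38 : allBlock (lv1.chkEnt actA lv1W 1) 28160 512 38 = true := by decide +kernel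

theorem lv1_ents39 : allBlock (lv1.chkEnt actA lv1W 1) 28160 512 39 = true := by decide +kernel

theorem lv1_ents40 : allBlock (lv1.chkEnt actA lv1W 1) 28160 512 40 = true := by decide +kernel

theorem lv1_ents41 : allBlock (lv1.chkEnt actA lv1W 1) 28160 512 41 = true := by decide +kernel

theorem lv1_ents42 : allBlock (lv1.chkEnt actA lv1W 1) 28160 512 42 = true := by decide +kernel

theorem lv1_ents43 : allBlock (lv1.chkEnt actA lv1W 1) 28160 512 43 = true := by decide +kernel

theorem lv1_ents44 : allBlock (lv1.chkEnt actA lv1W 1) 28160 512 44 = true := by decide +kernel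

theorem lv1_ents45 : allBlock (lv1.chkEnt actA lv1W 1) 28160 512 45 = true := by decide +kernel

theorem lv1_ents46 : allBlock (lv1.chkEnt actA lv1W 1) 28160 512 46 = true := by decide +kernel

theorem lv1_ents47 : allBlock (lv1.chkEnt actA lv1W 1) 28160 512 47 = true := by decide +kernel


end Cfsg.Agent.Spor.Cos.Fi23
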