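import Cfsg.Agent.Lib.Spor.Cos.Orb

/-! Data and checks for a presented sporadic group. -/

set_option autoImplicit false
set_option maxRecDepth 100000
set_option maxHeartbeats 4000000

namespace Cfsg.Agent.Spor.Cos.Fi23

def lv4EB0 : Bst := .node 1 (.leaf 0x3000b004900050009007500050008000900030008007600040007004a00050005000800030005003600040004004d00000004004b00050003000700040002003700010002004c000400010006000200010038000300000005000000000004) (.node 2 (.leaf 0x4001c00c50003001b009c0004001901240005001800c600040016009d0004001501030005001400c70001001400470004001200ca00050011004e0005000f00c80002000f00480004000e00740005000c000a0002000c00820005000b00c9) (.leaf 0x2002104650003001f04640003001d0463))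

/-- The table lv4E. -/
def lv4E : Tab := ⟨lv4EB0, 48, 4⟩

def lv4PB0 : Bst := .node 15 (.node 7 (.node 3 (.node 1 (.leaf 0x12000d000a00060003000100000000000000000000) (.leaf 0)) (.node 5 (.node 4 (.leaf 0x200050009000000000000000000000000) (.leaf 0x16000800040007000b000f001400180000000000000000000000000000)) (.leaf 0))) (.node 11 (.node 9 (.node 8 (.leaf 0xc000e00130000000000000000) (.leaf 0x1100000000)) (.node 10 (.leaf 0x1b001e000000000000000000000000000000000000000000000000) (.leaf 0))) (.node 13 (.node 12 (.leaf 0) (.leaf 0x17001000150019001c001f00000000000000000000)) (.leaf 0)))) (.node 22 (.node 18 (.node 16 (.leaf 0) (.node 17 (.leaf 0x1a000000000000) (.leaf 0))) (.node 20 (.node 19 (.leaf 0x1d0000000000000000) (.leaf 0)) (.leaf 0))) (.leaf 0))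

def lv4PB1 : Bst := .node 76 (.node 68 (.leaf 0) (.node 72 (.node 70 (.leaf 0) (.node 71 (.leaf 0x2200210020000000000000) (.leaf 0))) (.leaf 0))) (.leaf 0)

/-- The table lv4P. -/
def lv4P : Tab := ⟨(.node 990 (.node 495 (.node 247 (.node 123 (.node 61 (.node 30 lv4PB0 (.leaf 0)) (.node 92 lv4PB1 (.leaf 0))) (.leaf 0)) (.leaf 0)) (.leaf 0)) (.leaf 0)), 16, 4⟩

/-- The words of `lv4`. -/
def lv4W : List (List ℕ) := [[0], [1], [2], [3], [8], [9]]

/-- An orbit of 35 points. -/
def lv4 : Orb := ⟨35, lv4E, lv4P⟩

end Cfsg.Agent.Spor.Cos.Fi23
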