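import Cfsg.Agent.Lib.Spor.Cos.Fi23.Lv7Data
import Cfsg.Agent.Lib.Spor.Cos.Fi23.ActAData

/-! Data and checks for a presented sporadic group. -/

set_option autoImplicit false
set_option maxRecDepth 100000
set_option maxHeartbeats 4000000

namespace Cfsg.Agent.Spor.Cos.Fi23

theorem lv7_ents0 : allBlock (lv7.chkEnt actA lv7W 8) 3 512 0 = true := by decide +kernel


end Cfsg.Agent.Spor.Cos.Fi23
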