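import Cfsg.Agent.Lib.Spor.Cos.Fi23.MidData

/-! A checked coset enumeration. -/

set_option autoImplicit false
set_option maxRecDepth 100000
set_option maxHeartbeats 4000000

namespace Cfsg.Agent.Spor.Cos.Fi23

theorem mid_def40 : allBlock mid.chkDef 39783 512 40 = true := by decide +kernel

theorem mid_def41 : allBlock mid.chkDef 39783 512 41 = true := by decide +kernel

theorem mid_def42 : allBlock mid.chkDef 39783 512 42 = true := by decide +kernel

theorem mid_def43 : allBlock mid.chkDef 39783 512 43 = true := by decide +kernel

theorem mid_def44 : allBlock mid.chkDef 39783 512 44 = true := by decide +kernel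

theorem mid_def45 : allBlock mid.chkDef 39783 512 45 = true := by decide +kernel

theorem mid_def46 : allBlock mid.chkDef 39783 512 46 = true := by decide +kernel

theorem mid_def47 : allBlock mid.chkDef 39783 512 47 = true := by decide +kernel

theorem mid_def48 : allBlock mid.chkDef 39783 512 48 = true := by decide +kernel

theorem mid_def49 : allBlock mid.chkDef 39783 512 49 = true := by decide +kernel

theorem mid_def50 : allBlock mid.chkDef 39783 512 50 = true := by decide +kernel

theorem mid_def51 : allBlock mid.chkDef 39783 512 51 = true := by decide +kernel

theorem mid_def52 : allBlock mid.chkDef 39783 512 52 = true := by decide +kernel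

theorem mid_def53 : allBlock mid.chkDef 39783 512 53 = true := by decide +kernel

theorem mid_def54 : allBlock mid.chkDef 39783 512 54 = true := by decide +kernel

theorem mid_def55 : allBlock mid.chkDef 39783 512 55 = true := by decide +kernel

theorem mid_def56 : allBlock mid.chkDef 39783 512 56 = true := by decide +kernel

theorem mid_def57 : allBlock mid.chkDef 39783 512 57 = true := by decide +kernel

theorem mid_def58 : allBlock mid.chkDef 39783 512 58 = true := by decide +kernel

theorem mid_def59 : allBlock mid.chkDef 39783 512 59 = true := by decide +kernel

theorem mid_def60 : allBlock mid.chkDef 39783 512 60 = true := by decide +kernel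

theorem mid_def61 : allBlock mid.chkDef 39783 512 61 = true := by decide +kernel

theorem mid_def62 : allBlock mid.chkDef 39783 512 62 = true := by decide +kernel

theorem mid_def63 : allBlock mid.chkDef 39783 512 63 = true := by decide +kernel

theorem mid_def64 : allBlock mid.chkDef 39783 512 64 = true := by decide +kernel

theorem mid_def65 : allBlock mid.chkDef 39783 512 65 = true := by decide +kernel

theorem mid_def66 : allBlock mid.chkDef 39783 512 66 = true := by decide +kernel

theorem mid_def67 : allBlock mid.chkDef 39783 512 67 = true := by decide +kernel

theorem mid_def68 : allBlock mid.chkDef 39783 512 68 = true := by decide +kernel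

theorem mid_def69 : allBlock mid.chkDef 39783 512 69 = true := by decide +kernel

theorem mid_def70 : allBlock mid.chkDef 39783 512 70 = true := by decide +kernel

theorem mid_def71 : allBlock mid.chkDef 39783 512 71 = true := by decide +kernel

theorem mid_def72 : allBlock mid.chkDef 39783 512 72 = true := by decide +kernel

theorem mid_def73 : allBlock mid.chkDef 39783 512 73 = true := by decide +kernel

theorem mid_def74 : allBlock mid.chkDef 39783 512 74 = true := by decide +kernel

theorem mid_def75 : allBlock mid.chkDef 39783 512 75 = true := by decide +kernel

theorem mid_def76 : allBlock mid.chkDef 39783 512 76 = true := by decide +kernel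

theorem mid_def77 : allBlock mid.chkDef 39783 512 77 = true := by decide +kernel

theorem mid_final0 : allBlock mid.chkFinal 253440 512 0 = true := by decide +kernel

theorem mid_final1 : allBlock mid.chkFinal 253440 512 1 = true := by decide +kernel

end Cfsg.Agent.Spor.Cos.Fi23
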