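import Cfsg.Agent.Lib.Spor.Cos.Fi23.MidData

/-! A checked coset enumeration. -/

set_option autoImplicit false
set_option maxRecDepth 100000
set_option maxHeartbeats 4000000

namespace Cfsg.Agent.Spor.Cos.Fi23

theorem mid_final322 : allBlock mid.chkFinal 253440 512 322 = true := by decide +kernel

theorem mid_final323 : allBlock mid.chkFinal 253440 512 323 = true := by decide +kernel

theorem mid_final324 : allBlock mid.chkFinal 253440 512 324 = true := by decide +kernel

theorem mid_final325 : allBlock mid.chkFinal 253440 512 325 = true := by decide +kernel

theorem mid_final326 : allBlock mid.chkFinal 253440 512 326 = true := by decide +kernel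

theorem mid_final327 : allBlock mid.chkFinal 253440 512 327 = true := by decide +kernel

theorem mid_final328 : allBlock mid.chkFinal 253440 512 328 = true := by decide +kernel

theorem mid_final329 : allBlock mid.chkFinal 253440 512 329 = true := by decide +kernel

theorem mid_final330 : allBlock mid.chkFinal 253440 512 330 = true := by decide +kernel

theorem mid_final331 : allBlock mid.chkFinal 253440 512 331 = true := by decide +kernel

theorem mid_final332 : allBlock mid.chkFinal 253440 512 332 = true := by decide +kernel

theorem mid_final333 : allBlock mid.chkFinal 253440 512 333 = true := by decide +kernel

theorem mid_final334 : allBlock mid.chkFinal 253440 512 334 = true := by decide +kernel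

theorem mid_final335 : allBlock mid.chkFinal 253440 512 335 = true := by decide +kernel

theorem mid_final336 : allBlock mid.chkFinal 253440 512 336 = true := by decide +kernel

theorem mid_final337 : allBlock mid.chkFinal 253440 512 337 = true := by decide +kernel

theorem mid_final338 : allBlock mid.chkFinal 253440 512 338 = true := by decide +kernel

theorem mid_final339 : allBlock mid.chkFinal 253440 512 339 = true := by decide +kernel

theorem mid_final340 : allBlock mid.chkFinal 253440 512 340 = true := by decide +kernel

theorem mid_final341 : allBlock mid.chkFinal 253440 512 341 = true := by decide +kernel

theorem mid_final342 : allBlock mid.chkFinal 253440 512 342 = true := by decide +kernel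

theorem mid_final343 : allBlock mid.chkFinal 253440 512 343 = true := by decide +kernel

theorem mid_final344 : allBlock mid.chkFinal 253440 512 344 = true := by decide +kernel

theorem mid_final345 : allBlock mid.chkFinal 253440 512 345 = true := by decide +kernel

theorem mid_final346 : allBlock mid.chkFinal 253440 512 346 = true := by decide +kernel

theorem mid_final347 : allBlock mid.chkFinal 253440 512 347 = true := by decide +kernel

theorem mid_final348 : allBlock mid.chkFinal 253440 512 348 = true := by decide +kernel

theorem mid_final349 : allBlock mid.chkFinal 253440 512 349 = true := by decide +kernel

theorem mid_final350 : allBlock mid.chkFinal 253440 512 350 = true := by decide +kernel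

theorem mid_final351 : allBlock mid.chkFinal 253440 512 351 = true := by decide +kernel

theorem mid_final352 : allBlock mid.chkFinal 253440 512 352 = true := by decide +kernel

theorem mid_final353 : allBlock mid.chkFinal 253440 512 353 = true := by decide +kernel

theorem mid_final354 : allBlock mid.chkFinal 253440 512 354 = true := by decide +kernel

theorem mid_final355 : allBlock mid.chkFinal 253440 512 355 = true := by decide +kernel

theorem mid_final356 : allBlock mid.chkFinal 253440 512 356 = true := by decide +kernel

theorem mid_final357 : allBlock mid.chkFinal 253440 512 357 = true := by decide +kernel

theorem mid_final358 : allBlock mid.chkFinal 253440 512 358 = true := by decide +kernel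

theorem mid_final359 : allBlock mid.chkFinal 253440 512 359 = true := by decide +kernel

theorem mid_final360 : allBlock mid.chkFinal 253440 512 360 = true := by decide +kernel

theorem mid_final361 : allBlock mid.chkFinal 253440 512 361 = true := by decide +kernel

end Cfsg.Agent.Spor.Cos.Fi23
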