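import Cfsg.Agent.Lib.Spor.Cos.Fi23.MidData

/-! A checked coset enumeration. -/

set_option autoImplicit false
set_option maxRecDepth 100000
set_option maxHeartbeats 4000000

namespace Cfsg.Agent.Spor.Cos.Fi23

theorem mid_final442 : allBlock mid.chkFinal 253440 512 442 = true := by decide +kernel

theorem mid_final443 : allBlock mid.chkFinal 253440 512 443 = true := by decide +kernel

theorem mid_final444 : allBlock mid.chkFinal 253440 512 444 = true := by decide +kernel

theorem mid_final445 : allBlock mid.chkFinal 253440 512 445 = true := by decide +kernel

theorem mid_final446 : allBlock mid.chkFinal 253440 512 446 = true := by decide +kernel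

theorem mid_final447 : allBlock mid.chkFinal 253440 512 447 = true := by decide +kernel

theorem mid_final448 : allBlock mid.chkFinal 253440 512 448 = true := by decide +kernel

theorem mid_final449 : allBlock mid.chkFinal 253440 512 449 = true := by decide +kernel

theorem mid_final450 : allBlock mid.chkFinal 253440 512 450 = true := by decide +kernel

theorem mid_final451 : allBlock mid.chkFinal 253440 512 451 = true := by decide +kernel

theorem mid_final452 : allBlock mid.chkFinal 253440 512 452 = true := by decide +kernel

theorem mid_final453 : allBlock mid.chkFinal 253440 512 453 = true := by decide +kernel

theorem mid_final454 : allBlock mid.chkFinal 253440 512 454 = true := by decide +kernel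

theorem mid_final455 : allBlock mid.chkFinal 253440 512 455 = true := by decide +kernel

theorem mid_final456 : allBlock mid.chkFinal 253440 512 456 = true := by decide +kernel

theorem mid_final457 : allBlock mid.chkFinal 253440 512 457 = true := by decide +kernel

theorem mid_final458 : allBlock mid.chkFinal 253440 512 458 = true := by decide +kernel

theorem mid_final459 : allBlock mid.chkFinal 253440 512 459 = true := by decide +kernel

theorem mid_final460 : allBlock mid.chkFinal 253440 512 460 = true := by decide +kernel

theorem mid_final461 : allBlock mid.chkFinal 253440 512 461 = true := by decide +kernel

theorem mid_final462 : allBlock mid.chkFinal 253440 512 462 = true := by decide +kernel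

theorem mid_final463 : allBlock mid.chkFinal 253440 512 463 = true := by decide +kernel

theorem mid_final464 : allBlock mid.chkFinal 253440 512 464 = true := by decide +kernel

theorem mid_final465 : allBlock mid.chkFinal 253440 512 465 = true := by decide +kernel

theorem mid_final466 : allBlock mid.chkFinal 253440 512 466 = true := by decide +kernel

theorem mid_final467 : allBlock mid.chkFinal 253440 512 467 = true := by decide +kernel

theorem mid_final468 : allBlock mid.chkFinal 253440 512 468 = true := by decide +kernel

theorem mid_final469 : allBlock mid.chkFinal 253440 512 469 = true := by decide +kernel

theorem mid_final470 : allBlock mid.chkFinal 253440 512 470 = true := by decide +kernel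

theorem mid_final471 : allBlock mid.chkFinal 253440 512 471 = true := by decide +kernel

theorem mid_final472 : allBlock mid.chkFinal 253440 512 472 = true := by decide +kernel

theorem mid_final473 : allBlock mid.chkFinal 253440 512 473 = true := by decide +kernel

theorem mid_final474 : allBlock mid.chkFinal 253440 512 474 = true := by decide +kernel

theorem mid_final475 : allBlock mid.chkFinal 253440 512 475 = true := by decide +kernel

theorem mid_final476 : allBlock mid.chkFinal 253440 512 476 = true := by decide +kernel

theorem mid_final477 : allBlock mid.chkFinal 253440 512 477 = true := by decide +kernel

theorem mid_final478 : allBlock mid.chkFinal 253440 512 478 = true := by decide +kernel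

theorem mid_final479 : allBlock mid.chkFinal 253440 512 479 = true := by decide +kernel

theorem mid_final480 : allBlock mid.chkFinal 253440 512 480 = true := by decide +kernel

theorem mid_final481 : allBlock mid.chkFinal 253440 512 481 = true := by decide +kernel

end Cfsg.Agent.Spor.Cos.Fi23
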