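import Cfsg.Agent.Lib.Spor.Cos.Fi23.MidData

/-! A checked coset enumeration. -/

set_option autoImplicit false
set_option maxRecDepth 100000
set_option maxHeartbeats 4000000

namespace Cfsg.Agent.Spor.Cos.Fi23

theorem mid_final482 : allBlock mid.chkFinal 253440 512 482 = true := by decide +kernel

theorem mid_final483 : allBlock mid.chkFinal 253440 512 483 = true := by decide +kernel

theorem mid_final484 : allBlock mid.chkFinal 253440 512 484 = true := by decide +kernel

theorem mid_final485 : allBlock mid.chkFinal 253440 512 485 = true := by decide +kernel

theorem mid_final486 : allBlock mid.chkFinal 253440 512 486 = true := by decide +kernel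

theorem mid_final487 : allBlock mid.chkFinal 253440 512 487 = true := by decide +kernel

theorem mid_final488 : allBlock mid.chkFinal 253440 512 488 = true := by decide +kernel

theorem mid_final489 : allBlock mid.chkFinal 253440 512 489 = true := by decide +kernel

theorem mid_final490 : allBlock mid.chkFinal 253440 512 490 = true := by decide +kernel

theorem mid_final491 : allBlock mid.chkFinal 253440 512 491 = true := by decide +kernel

theorem mid_final492 : allBlock mid.chkFinal 253440 512 492 = true := by decide +kernel

theorem mid_final493 : allBlock mid.chkFinal 253440 512 493 = true := by decide +kernel

theorem mid_final494 : allBlock mid.chkFinal 253440 512 494 = true := by decide +kernel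

end Cfsg.Agent.Spor.Cos.Fi23
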