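import Cfsg.Agent.Lib.Spor.Cos.Fi23.MidData

/-! A checked coset enumeration. -/

set_option autoImplicit false
set_option maxRecDepth 100000
set_option maxHeartbeats 4000000

namespace Cfsg.Agent.Spor.Cos.Fi23

theorem mid_final122 : allBlock mid.chkFinal 253440 512 122 = true := by decide +kernel

theorem mid_final123 : allBlock mid.chkFinal 253440 512 123 = true := by decide +kernel

theorem mid_final124 : allBlock mid.chkFinal 253440 512 124 = true := by decide +kernel

theorem mid_final125 : allBlock mid.chkFinal 253440 512 125 = true := by decide +kernel

theorem mid_final126 : allBlock mid.chkFinal 253440 512 126 = true := by decide +kernel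

theorem mid_final127 : allBlock mid.chkFinal 253440 512 127 = true := by decide +kernel

theorem mid_final128 : allBlock mid.chkFinal 253440 512 128 = true := by decide +kernel

theorem mid_final129 : allBlock mid.chkFinal 253440 512 129 = true := by decide +kernel

theorem mid_final130 : allBlock mid.chkFinal 253440 512 130 = true := by decide +kernel

theorem mid_final131 : allBlock mid.chkFinal 253440 512 131 = true := by decide +kernel

theorem mid_final132 : allBlock mid.chkFinal 253440 512 132 = true := by decide +kernel

theorem mid_final133 : allBlock mid.chkFinal 253440 512 133 = true := by decide +kernel

theorem mid_final134 : allBlock mid.chkFinal 253440 512 134 = true := by decide +kernel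

theorem mid_final135 : allBlock mid.chkFinal 253440 512 135 = true := by decide +kernel

theorem mid_final136 : allBlock mid.chkFinal 253440 512 136 = true := by decide +kernel

theorem mid_final137 : allBlock mid.chkFinal 253440 512 137 = true := by decide +kernel

theorem mid_final138 : allBlock mid.chkFinal 253440 512 138 = true := by decide +kernel

theorem mid_final139 : allBlock mid.chkFinal 253440 512 139 = true := by decide +kernel

theorem mid_final140 : allBlock mid.chkFinal 253440 512 140 = true := by decide +kernel

theorem mid_final141 : allBlock mid.chkFinal 253440 512 141 = true := by decide +kernel

theorem mid_final142 : allBlock mid.chkFinal 253440 512 142 = true := by decide +kernel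

theorem mid_final143 : allBlock mid.chkFinal 253440 512 143 = true := by decide +kernel

theorem mid_final144 : allBlock mid.chkFinal 253440 512 144 = true := by decide +kernel

theorem mid_final145 : allBlock mid.chkFinal 253440 512 145 = true := by decide +kernel

theorem mid_final146 : allBlock mid.chkFinal 253440 512 146 = true := by decide +kernel

theorem mid_final147 : allBlock mid.chkFinal 253440 512 147 = true := by decide +kernel

theorem mid_final148 : allBlock mid.chkFinal 253440 512 148 = true := by decide +kernel

theorem mid_final149 : allBlock mid.chkFinal 253440 512 149 = true := by decide +kernel

theorem mid_final150 : allBlock mid.chkFinal 253440 512 150 = true := by decide +kernel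

theorem mid_final151 : allBlock mid.chkFinal 253440 512 151 = true := by decide +kernel

theorem mid_final152 : allBlock mid.chkFinal 253440 512 152 = true := by decide +kernel

theorem mid_final153 : allBlock mid.chkFinal 253440 512 153 = true := by decide +kernel

theorem mid_final154 : allBlock mid.chkFinal 253440 512 154 = true := by decide +kernel

theorem mid_final155 : allBlock mid.chkFinal 253440 512 155 = true := by decide +kernel

theorem mid_final156 : allBlock mid.chkFinal 253440 512 156 = true := by decide +kernel

theorem mid_final157 : allBlock mid.chkFinal 253440 512 157 = true := by decide +kernel

theorem mid_final158 : allBlock mid.chkFinal 253440 512 158 = true := by decide +kernel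

theorem mid_final159 : allBlock mid.chkFinal 253440 512 159 = true := by decide +kernel

theorem mid_final160 : allBlock mid.chkFinal 253440 512 160 = true := by decide +kernel

theorem mid_final161 : allBlock mid.chkFinal 253440 512 161 = true := by decide +kernel

end Cfsg.Agent.Spor.Cos.Fi23
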