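import Cfsg.Agent.Lib.Spor.Cos.Fi23.MidData

/-! A checked coset enumeration. -/

set_option autoImplicit false
set_option maxRecDepth 100000
set_option maxHeartbeats 4000000

namespace Cfsg.Agent.Spor.Cos.Fi23

theorem mid_final162 : allBlock mid.chkFinal 253440 512 162 = true := by decide +kernel

theorem mid_final163 : allBlock mid.chkFinal 253440 512 163 = true := by decide +kernel

theorem mid_final164 : allBlock mid.chkFinal 253440 512 164 = true := by decide +kernel

theorem mid_final165 : allBlock mid.chkFinal 253440 512 165 = true := by decide +kernel

theorem mid_final166 : allBlock mid.chkFinal 253440 512 166 = true := by decide +kernel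

theorem mid_final167 : allBlock mid.chkFinal 253440 512 167 = true := by decide +kernel

theorem mid_final168 : allBlock mid.chkFinal 253440 512 168 = true := by decide +kernel

theorem mid_final169 : allBlock mid.chkFinal 253440 512 169 = true := by decide +kernel

theorem mid_final170 : allBlock mid.chkFinal 253440 512 170 = true := by decide +kernel

theorem mid_final171 : allBlock mid.chkFinal 253440 512 171 = true := by decide +kernel

theorem mid_final172 : allBlock mid.chkFinal 253440 512 172 = true := by decide +kernel

theorem mid_final173 : allBlock mid.chkFinal 253440 512 173 = true := by decide +kernel

theorem mid_final174 : allBlock mid.chkFinal 253440 512 174 = true := by decide +kernel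

theorem mid_final175 : allBlock mid.chkFinal 253440 512 175 = true := by decide +kernel

theorem mid_final176 : allBlock mid.chkFinal 253440 512 176 = true := by decide +kernel

theorem mid_final177 : allBlock mid.chkFinal 253440 512 177 = true := by decide +kernel

theorem mid_final178 : allBlock mid.chkFinal 253440 512 178 = true := by decide +kernel

theorem mid_final179 : allBlock mid.chkFinal 253440 512 179 = true := by decide +kernel

theorem mid_final180 : allBlock mid.chkFinal 253440 512 180 = true := by decide +kernel

theorem mid_final181 : allBlock mid.chkFinal 253440 512 181 = true := by decide +kernel

theorem mid_final182 : allBlock mid.chkFinal 253440 512 182 = true := by decide +kernel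

theorem mid_final183 : allBlock mid.chkFinal 253440 512 183 = true := by decide +kernel

theorem mid_final184 : allBlock mid.chkFinal 253440 512 184 = true := by decide +kernel

theorem mid_final185 : allBlock mid.chkFinal 253440 512 185 = true := by decide +kernel

theorem mid_final186 : allBlock mid.chkFinal 253440 512 186 = true := by decide +kernel

theorem mid_final187 : allBlock mid.chkFinal 253440 512 187 = true := by decide +kernel

theorem mid_final188 : allBlock mid.chkFinal 253440 512 188 = true := by decide +kernel

theorem mid_final189 : allBlock mid.chkFinal 253440 512 189 = true := by decide +kernel

theorem mid_final190 : allBlock mid.chkFinal 253440 512 190 = true := by decide +kernel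

theorem mid_final191 : allBlock mid.chkFinal 253440 512 191 = true := by decide +kernel

theorem mid_final192 : allBlock mid.chkFinal 253440 512 192 = true := by decide +kernel

theorem mid_final193 : allBlock mid.chkFinal 253440 512 193 = true := by decide +kernel

theorem mid_final194 : allBlock mid.chkFinal 253440 512 194 = true := by decide +kernel

theorem mid_final195 : allBlock mid.chkFinal 253440 512 195 = true := by decide +kernel

theorem mid_final196 : allBlock mid.chkFinal 253440 512 196 = true := by decide +kernel

theorem mid_final197 : allBlock mid.chkFinal 253440 512 197 = true := by decide +kernel

theorem mid_final198 : allBlock mid.chkFinal 253440 512 198 = true := by decide +kernel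

theorem mid_final199 : allBlock mid.chkFinal 253440 512 199 = true := by decide +kernel

theorem mid_final200 : allBlock mid.chkFinal 253440 512 200 = true := by decide +kernel

theorem mid_final201 : allBlock mid.chkFinal 253440 512 201 = true := by decide +kernel

end Cfsg.Agent.Spor.Cos.Fi23
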