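import Cfsg.Agent.Lib.Spor.Cos.Fi23.MidData

/-! A checked coset enumeration. -/

set_option autoImplicit false
set_option maxRecDepth 100000
set_option maxHeartbeats 4000000

namespace Cfsg.Agent.Spor.Cos.Fi23

theorem mid_final242 : allBlock mid.chkFinal 253440 512 242 = true := by decide +kernel

theorem mid_final243 : allBlock mid.chkFinal 253440 512 243 = true := by decide +kernel

theorem mid_final244 : allBlock mid.chkFinal 253440 512 244 = true := by decide +kernel

theorem mid_final245 : allBlock mid.chkFinal 253440 512 245 = true := by decide +kernel

theorem mid_final246 : allBlock mid.chkFinal 253440 512 246 = true := by decide +kernel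

theorem mid_final247 : allBlock mid.chkFinal 253440 512 247 = true := by decide +kernel

theorem mid_final248 : allBlock mid.chkFinal 253440 512 248 = true := by decide +kernel

theorem mid_final249 : allBlock mid.chkFinal 253440 512 249 = true := by decide +kernel

theorem mid_final250 : allBlock mid.chkFinal 253440 512 250 = true := by decide +kernel

theorem mid_final251 : allBlock mid.chkFinal 253440 512 251 = true := by decide +kernel

theorem mid_final252 : allBlock mid.chkFinal 253440 512 252 = true := by decide +kernel

theorem mid_final253 : allBlock mid.chkFinal 253440 512 253 = true := by decide +kernel

theorem mid_final254 : allBlock mid.chkFinal 253440 512 254 = true := by decide +kernel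

theorem mid_final255 : allBlock mid.chkFinal 253440 512 255 = true := by decide +kernel

theorem mid_final256 : allBlock mid.chkFinal 253440 512 256 = true := by decide +kernel

theorem mid_final257 : allBlock mid.chkFinal 253440 512 257 = true := by decide +kernel

theorem mid_final258 : allBlock mid.chkFinal 253440 512 258 = true := by decide +kernel

theorem mid_final259 : allBlock mid.chkFinal 253440 512 259 = true := by decide +kernel

theorem mid_final260 : allBlock mid.chkFinal 253440 512 260 = true := by decide +kernel

theorem mid_final261 : allBlock mid.chkFinal 253440 512 261 = true := by decide +kernel

theorem mid_final262 : allBlock mid.chkFinal 253440 512 262 = true := by decide +kernel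

theorem mid_final263 : allBlock mid.chkFinal 253440 512 263 = true := by decide +kernel

theorem mid_final264 : allBlock mid.chkFinal 253440 512 264 = true := by decide +kernel

theorem mid_final265 : allBlock mid.chkFinal 253440 512 265 = true := by decide +kernel

theorem mid_final266 : allBlock mid.chkFinal 253440 512 266 = true := by decide +kernel

theorem mid_final267 : allBlock mid.chkFinal 253440 512 267 = true := by decide +kernel

theorem mid_final268 : allBlock mid.chkFinal 253440 512 268 = true := by decide +kernel

theorem mid_final269 : allBlock mid.chkFinal 253440 512 269 = true := by decide +kernel

theorem mid_final270 : allBlock mid.chkFinal 253440 512 270 = true := by decide +kernel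

theorem mid_final271 : allBlock mid.chkFinal 253440 512 271 = true := by decide +kernel

theorem mid_final272 : allBlock mid.chkFinal 253440 512 272 = true := by decide +kernel

theorem mid_final273 : allBlock mid.chkFinal 253440 512 273 = true := by decide +kernel

theorem mid_final274 : allBlock mid.chkFinal 253440 512 274 = true := by decide +kernel

theorem mid_final275 : allBlock mid.chkFinal 253440 512 275 = true := by decide +kernel

theorem mid_final276 : allBlock mid.chkFinal 253440 512 276 = true := by decide +kernel

theorem mid_final277 : allBlock mid.chkFinal 253440 512 277 = true := by decide +kernel

theorem mid_final278 : allBlock mid.chkFinal 253440 512 278 = true := by decide +kernel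

theorem mid_final279 : allBlock mid.chkFinal 253440 512 279 = true := by decide +kernel

theorem mid_final280 : allBlock mid.chkFinal 253440 512 280 = true := by decide +kernel

theorem mid_final281 : allBlock mid.chkFinal 253440 512 281 = true := by decide +kernel

end Cfsg.Agent.Spor.Cos.Fi23
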