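import Cfsg.Agent.Lib.Spor.Cos.Fi23.MidData

/-! A checked coset enumeration. -/

set_option autoImplicit false
set_option maxRecDepth 100000
set_option maxHeartbeats 4000000

namespace Cfsg.Agent.Spor.Cos.Fi23

theorem mid_final282 : allBlock mid.chkFinal 253440 512 282 = true := by decide +kernel

theorem mid_final283 : allBlock mid.chkFinal 253440 512 283 = true := by decide +kernel

theorem mid_final284 : allBlock mid.chkFinal 253440 512 284 = true := by decide +kernel

theorem mid_final285 : allBlock mid.chkFinal 253440 512 285 = true := by decide +kernel

theorem mid_final286 : allBlock mid.chkFinal 253440 512 286 = true := by decide +kernel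

theorem mid_final287 : allBlock mid.chkFinal 253440 512 287 = true := by decide +kernel

theorem mid_final288 : allBlock mid.chkFinal 253440 512 288 = true := by decide +kernel

theorem mid_final289 : allBlock mid.chkFinal 253440 512 289 = true := by decide +kernel

theorem mid_final290 : allBlock mid.chkFinal 253440 512 290 = true := by decide +kernel

theorem mid_final291 : allBlock mid.chkFinal 253440 512 291 = true := by decide +kernel

theorem mid_final292 : allBlock mid.chkFinal 253440 512 292 = true := by decide +kernel

theorem mid_final293 : allBlock mid.chkFinal 253440 512 293 = true := by decide +kernel

theorem mid_final294 : allBlock mid.chkFinal 253440 512 294 = true := by decide +kernel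

theorem mid_final295 : allBlock mid.chkFinal 253440 512 295 = true := by decide +kernel

theorem mid_final296 : allBlock mid.chkFinal 253440 512 296 = true := by decide +kernel

theorem mid_final297 : allBlock mid.chkFinal 253440 512 297 = true := by decide +kernel

theorem mid_final298 : allBlock mid.chkFinal 253440 512 298 = true := by decide +kernel

theorem mid_final299 : allBlock mid.chkFinal 253440 512 299 = true := by decide +kernel

theorem mid_final300 : allBlock mid.chkFinal 253440 512 300 = true := by decide +kernel

theorem mid_final301 : allBlock mid.chkFinal 253440 512 301 = true := by decide +kernel

theorem mid_final302 : allBlock mid.chkFinal 253440 512 302 = true := by decide +kernel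

theorem mid_final303 : allBlock mid.chkFinal 253440 512 303 = true := by decide +kernel

theorem mid_final304 : allBlock mid.chkFinal 253440 512 304 = true := by decide +kernel

theorem mid_final305 : allBlock mid.chkFinal 253440 512 305 = true := by decide +kernel

theorem mid_final306 : allBlock mid.chkFinal 253440 512 306 = true := by decide +kernel

theorem mid_final307 : allBlock mid.chkFinal 253440 512 307 = true := by decide +kernel

theorem mid_final308 : allBlock mid.chkFinal 253440 512 308 = true := by decide +kernel

theorem mid_final309 : allBlock mid.chkFinal 253440 512 309 = true := by decide +kernel

theorem mid_final310 : allBlock mid.chkFinal 253440 512 310 = true := by decide +kernel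

theorem mid_final311 : allBlock mid.chkFinal 253440 512 311 = true := by decide +kernel

theorem mid_final312 : allBlock mid.chkFinal 253440 512 312 = true := by decide +kernel

theorem mid_final313 : allBlock mid.chkFinal 253440 512 313 = true := by decide +kernel

theorem mid_final314 : allBlock mid.chkFinal 253440 512 314 = true := by decide +kernel

theorem mid_final315 : allBlock mid.chkFinal 253440 512 315 = true := by decide +kernel

theorem mid_final316 : allBlock mid.chkFinal 253440 512 316 = true := by decide +kernel

theorem mid_final317 : allBlock mid.chkFinal 253440 512 317 = true := by decide +kernel

theorem mid_final318 : allBlock mid.chkFinal 253440 512 318 = true := by decide +kernel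

theorem mid_final319 : allBlock mid.chkFinal 253440 512 319 = true := by decide +kernel

theorem mid_final320 : allBlock mid.chkFinal 253440 512 320 = true := by decide +kernel

theorem mid_final321 : allBlock mid.chkFinal 253440 512 321 = true := by decide +kernel

end Cfsg.Agent.Spor.Cos.Fi23
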