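import Cfsg.Agent.Lib.Spor.Cos.Fi23.MidPart0
import Cfsg.Agent.Lib.Spor.Cos.Fi23.MidPart1
import Cfsg.Agent.Lib.Spor.Cos.Fi23.MidPart2
import Cfsg.Agent.Lib.Spor.Cos.Fi23.MidPart3
import Cfsg.Agent.Lib.Spor.Cos.Fi23.MidPart4
import Cfsg.Agent.Lib.Spor.Cos.Fi23.MidPart5
import Cfsg.Agent.Lib.Spor.Cos.Fi23.MidPart6
import Cfsg.Agent.Lib.Spor.Cos.Fi23.MidPart7
import Cfsg.Agent.Lib.Spor.Cos.Fi23.MidPart8
import Cfsg.Agent.Lib.Spor.Cos.Fi23.MidPart9
import Cfsg.Agent.Lib.Spor.Cos.Fi23.MidPart10
import Cfsg.Agent.Lib.Spor.Cos.Fi23.MidPart11
import Cfsg.Agent.Lib.Spor.Cos.Fi23.MidPart12
import Cfsg.Agent.Lib.Spor.Cos.Fi23.MidPart13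
import Cfsg.Agent.Lib.Spor.Cos.Fi23.MidPart14
import Cfsg.Agent.Lib.Spor.Cos.Fi23.MidPart15
import Cfsg.Agent.Lib.Spor.Cos.Fi23.MidChk0
import Cfsg.Agent.Lib.Spor.Cos.Fi23.MidChk1
import Cfsg.Agent.Lib.Spor.Cos.Fi23.MidChk2
import Cfsg.Agent.Lib.Spor.Cos.Fi23.MidChk3
import Cfsg.Agent.Lib.Spor.Cos.Fi23.MidChk4
import Cfsg.Agent.Lib.Spor.Cos.Fi23.MidChk5
import Cfsg.Agent.Lib.Spor.Cos.Fi23.MidChk6
import Cfsg.Agent.Lib.Spor.Cos.Fi23.MidChk7
import Cfsg.Agent.Lib.Spor.Cos.Fi23.MidChk8
import Cfsg.Agent.Lib.Spor.Cos.Fi23.MidChk9
import Cfsg.Agent.Lib.Spor.Cos.Fi23.MidChk10
import Cfsg.Agent.Lib.Spor.Cos.Fi23.MidChk11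
import Cfsg.Agent.Lib.Spor.Cos.Fi23.MidChk12
import Cfsg.Agent.Lib.Spor.Cos.Fi23.MidChk13
import Cfsg.Agent.Lib.Spor.Cos.Fi23.MidChk14

/-! A checked coset enumeration. -/

set_option autoImplicit false
set_option maxRecDepth 100000
set_option maxHeartbeats 4000000

namespace Cfsg.Agent.Spor.Cos.Fi23

theorem mid_defs : ∀ i, i + 1 < mid.M → mid.chkDef i = true := by
  intro i hi
  change i + 1 < 39784 at hi
  refine of_allBlock (n := 39783) (size := 512) (by decide) (fun j hj => ?_) (by omega)
  have hj' : j < 78 := by omega
  interval_cases j
  · exact mid_def0
  · exact mid_def1
  · exact mid_def2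
  · exact mid_def3
  · exact mid_def4
  · exact mid_def5
  · exact mid_def6
  · exact mid_def7
  · exact mid_def8
  · exact mid_def9
  · exact mid_def10
  · exact mid_def11
  · exact mid_def12
  · exact mid_def13
  · exact mid_def14
  · exact mid_def15
  · exact mid_def16
  · exact mid_def17
  · exact mid_def18
  · exact mid_def19
  · exact mid_def20
  · exact mid_def21
  · exact mid_def22
  · exact mid_def23
  · exact mid_def24
  · exact mid_def25
  · exact mid_def26
  · exact mid_def27
  · exact mid_def28
  · exact mid_def29
  · exact mid_def30
  · exact mid_def31
  · exact mid_def32
  · exact mid_def33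
  · exact mid_def34
  · exact mid_def35
  · exact mid_def36
  · exact mid_def37
  · exact mid_def38
  · exact mid_def39
  · exact mid_def40
  · exact mid_def41
  · exact mid_def42
  · exact mid_def43
  · exact mid_def44
  · exact mid_def45
  · exact mid_def46
  · exact mid_def47
  · exact mid_def48
  · exact mid_def49
  · exact mid_def50
  · exact mid_def51
  · exact mid_def52
  · exact mid_def53
  · exact mid_def54
  · exact mid_def55
  · exact mid_def56
  · exact mid_def57
  · exact mid_def58
  · exact mid_def59
  · exact mid_def60
  · exact mid_def61
  · exact mid_def62
  · exact mid_def63
  · exact mid_def64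
  · exact mid_def65
  · exact mid_def66
  · exact mid_def67
  · exact mid_def68
  · exact mid_def69
  · exact mid_def70
  · exact mid_def71
  · exact mid_def72
  · exact mid_def73
  · exact mid_def74
  · exact mid_def75
  · exact mid_def76
  · exact mid_def77

theorem mid_facts : ∀ i, mid.M ≤ i + 1 → i < mid.nF → ∃ J, mid.chkFact i J = true := by
  exact mid.facts_of_covers (Log.Covers.trans mid (Log.Covers.trans mid (Log.Covers.trans mid (Log.Covers.trans mid (Log.Covers.trans mid (Log.Covers.trans mid (Log.Covers.trans mid (mid.covers_of_part _ _ _ mid_part0) (mid.covers_of_part _ _ _ mid_part1)) (Log.Covers.trans mid (mid.covers_of_part _ _ _ mid_part2) (Log.Covers.trans mid (mid.covers_of_part _ _ _ mid_part3) (mid.covers_of_part _ _ _ mid_part4)))) (Log.Covers.trans mid (Log.Covers.trans mid (mid.covers_of_part _ _ _ mid_part5) (Log.Covers.trans mid (mid.covers_of_part _ _ _ mid_part6) (mid.covers_of_part _ _ _ mid_part7))) (Log.Covers.trans mid (mid.covers_of_part _ _ _ mid_part8) (Log.Covers.trans mid (mid.covers_of_part _ _ _ mid_part9) (mid.covers_of_part _ _ _ mid_part10))))) (Log.Covers.trans mid (Log.Covers.trans mid (Log.Covers.trans mid (mid.covers_of_part _ _ _ mid_part11) (mid.covers_of_part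 _ _ _ mid_part12)) (Log.Covers.trans mid (mid.covers_of_part _ _ _ mid_part13) (Log.Covers.trans mid (mid.covers_of_part _ _ _ mid_part14) (mid.covers_of_part _ _ _ mid_part15)))) (Log.Covers.trans mid (Log.Covers.trans mid (mid.covers_of_part _ _ _ mid_part16) (Log.Covers.trans mid (mid.covers_of_part _ _ _ mid_part17) (mid.covers_of_part _ _ _ mid_part18))) (Log.Covers.trans mid (mid.covers_of_part _ _ _ mid_part19) (Log.Covers.trans mid (mid.covers_of_part _ _ _ mid_part20) (mid.covers_of_part _ _ _ mid_part21)))))) (Log.Covers.trans mid (Log.Covers.trans mid (Log.Covers.trans mid (Log.Covers.trans mid (mid.covers_of_part _ _ _ mid_part22) (mid.covers_of_part _ _ _ mid_part23)) (Log.Covers.trans mid (mid.covers_of_part _ _ _ mid_part24) (Log.Covers.trans mid (mid.covers_of_part _ _ _ mid_part25) (mid.covers_of_part _ _ _ mid_part26)))) (Log.Covers.trans mid (Log.Covers.trans mid (mid.covers_of_part _ _ _ mid_part27) (Log.Covers.trans mid (mid.covers_of_part _ _ _ mid_part28) (mid.covers_of_part _ _ _ mid_part29))) (Log.Covers.trans mid (mid.covers_of_part _ _ _ mid_part30) (Log.Covers.trans mid (mid.covers_of_part _ _ _ mid_part31) (mid.covers_of_part _ _ _ mid_part32))))) (Log.Covers.trans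 mid (Log.Covers.trans mid (Log.Covers.trans mid (mid.covers_of_part _ _ _ mid_part33) (Log.Covers.trans mid (mid.covers_of_part _ _ _ mid_part34) (mid.covers_of_part _ _ _ mid_part35))) (Log.Covers.trans mid (mid.covers_of_part _ _ _ mid_part36) (Log.Covers.trans mid (mid.covers_of_part _ _ _ mid_part37) (mid.covers_of_part _ _ _ mid_part38)))) (Log.Covers.trans mid (Log.Covers.trans mid (mid.covers_of_part _ _ _ mid_part39) (Log.Covers.trans mid (mid.covers_of_part _ _ _ mid_part40) (mid.covers_of_part _ _ _ mid_part41))) (Log.Covers.trans mid (mid.covers_of_part _ _ _ mid_part42) (Log.Covers.trans mid (mid.covers_of_part _ _ _ mid_part43) (mid.covers_of_part _ _ _ mid_part44))))))) (Log.Covers.trans mid (Log.Covers.trans mid (Log.Covers.trans mid (Log.Covers.trans mid (Log.Covers.trans mid (mid.covers_of_part _ _ _ mid_part45) (mid.covers_of_part _ _ _ mid_part46)) (Log.Covers.trans mid (mid.covers_of_part _ _ _ mid_part47) (Log.Covers.trans mid (mid.covers_of_part _ _ _ mid_part48) (mid.covers_of_part _ _ _ mid_part49)))) (Log.Covers.trans mid (Log.Covers.trans mid (mid.covers_of_part _ _ _ mid_part50) (Log.Covers.trans mid (mid.covers_of_part _ _ _ mid_part51) (mid.covers_of_part _ _ _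 mid_part52))) (Log.Covers.trans mid (mid.covers_of_part _ _ _ mid_part53) (Log.Covers.trans mid (mid.covers_of_part _ _ _ mid_part54) (mid.covers_of_part _ _ _ mid_part55))))) (Log.Covers.trans mid (Log.Covers.trans mid (Log.Covers.trans mid (mid.covers_of_part _ _ _ mid_part56) (Log.Covers.trans mid (mid.covers_of_part _ _ _ mid_part57) (mid.covers_of_part _ _ _ mid_part58))) (Log.Covers.trans mid (mid.covers_of_part _ _ _ mid_part59) (Log.Covers.trans mid (mid.covers_of_part _ _ _ mid_part60) (mid.covers_of_part _ _ _ mid_part61)))) (Log.Covers.trans mid (Log.Covers.trans mid (mid.covers_of_part _ _ _ mid_part62) (Log.Covers.trans mid (mid.covers_of_part _ _ _ mid_part63) (mid.covers_of_part _ _ _ mid_part64))) (Log.Covers.trans mid (mid.covers_of_part _ _ _ mid_part65) (Log.Covers.trans mid (mid.covers_of_part _ _ _ mid_part66) (mid.covers_of_part _ _ _ mid_part67)))))) (Log.Covers.trans mid (Log.Covers.trans mid (Log.Covers.trans mid (Log.Covers.trans mid (mid.covers_of_part _ _ _ mid_part68) (mid.covers_of_part _ _ _ mid_part69)) (Log.Covers.trans mid (mid.covers_of_part _ _ _ mid_part70) (Log.Covers.trans mid (mid.covers_of_part _ _ _ mid_part71) (mid.covers_of_part _ _ _ mid_part72))))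 (Log.Covers.trans mid (Log.Covers.trans mid (mid.covers_of_part _ _ _ mid_part73) (Log.Covers.trans mid (mid.covers_of_part _ _ _ mid_part74) (mid.covers_of_part _ _ _ mid_part75))) (Log.Covers.trans mid (mid.covers_of_part _ _ _ mid_part76) (Log.Covers.trans mid (mid.covers_of_part _ _ _ mid_part77) (mid.covers_of_part _ _ _ mid_part78))))) (Log.Covers.trans mid (Log.Covers.trans mid (Log.Covers.trans mid (mid.covers_of_part _ _ _ mid_part79) (Log.Covers.trans mid (mid.covers_of_part _ _ _ mid_part80) (mid.covers_of_part _ _ _ mid_part81))) (Log.Covers.trans mid (mid.covers_of_part _ _ _ mid_part82) (Log.Covers.trans mid (mid.covers_of_part _ _ _ mid_part83) (mid.covers_of_part _ _ _ mid_part84)))) (Log.Covers.trans mid (Log.Covers.trans mid (mid.covers_of_part _ _ _ mid_part85) (Log.Covers.trans mid (mid.covers_of_part _ _ _ mid_part86) (mid.covers_of_part _ _ _ mid_part87))) (Log.Covers.trans mid (mid.covers_of_part _ _ _ mid_part88) (Log.Covers.trans mid (mid.covers_of_part _ _ _ mid_part89) (mid.covers_of_part _ _ _ mid_part90)))))))) (Log.Covers.trans mid (Log.Covers.trans mid (Log.Covers.trans mid (Log.Covers.trans mid (Log.Covers.trans mid (Log.Covers.trans mid (mid.covers_of_part _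 _ _ mid_part91) (mid.covers_of_part _ _ _ mid_part92)) (Log.Covers.trans mid (mid.covers_of_part _ _ _ mid_part93) (Log.Covers.trans mid (mid.covers_of_part _ _ _ mid_part94) (mid.covers_of_part _ _ _ mid_part95)))) (Log.Covers.trans mid (Log.Covers.trans mid (mid.covers_of_part _ _ _ mid_part96) (Log.Covers.trans mid (mid.covers_of_part _ _ _ mid_part97) (mid.covers_of_part _ _ _ mid_part98))) (Log.Covers.trans mid (mid.covers_of_part _ _ _ mid_part99) (Log.Covers.trans mid (mid.covers_of_part _ _ _ mid_part100) (mid.covers_of_part _ _ _ mid_part101))))) (Log.Covers.trans mid (Log.Covers.trans mid (Log.Covers.trans mid (mid.covers_of_part _ _ _ mid_part102) (mid.covers_of_part _ _ _ mid_part103)) (Log.Covers.trans mid (mid.covers_of_part _ _ _ mid_part104) (Log.Covers.trans mid (mid.covers_of_part _ _ _ mid_part105) (mid.covers_of_part _ _ _ mid_part106)))) (Log.Covers.trans mid (Log.Covers.trans mid (mid.covers_of_part _ _ _ mid_part107) (Log.Covers.trans mid (mid.covers_of_part _ _ _ mid_part108) (mid.covers_of_part _ _ _ mid_part109))) (Log.Covers.trans mid (mid.covers_of_part _ _ _ mid_part110) (Log.Covers.trans mid (mid.covers_of_part _ _ _ mid_part111) (mid.covers_of_part _ _ _ mid_part112))))))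 (Log.Covers.trans mid (Log.Covers.trans mid (Log.Covers.trans mid (Log.Covers.trans mid (mid.covers_of_part _ _ _ mid_part113) (mid.covers_of_part _ _ _ mid_part114)) (Log.Covers.trans mid (mid.covers_of_part _ _ _ mid_part115) (Log.Covers.trans mid (mid.covers_of_part _ _ _ mid_part116) (mid.covers_of_part _ _ _ mid_part117)))) (Log.Covers.trans mid (Log.Covers.trans mid (mid.covers_of_part _ _ _ mid_part118) (Log.Covers.trans mid (mid.covers_of_part _ _ _ mid_part119) (mid.covers_of_part _ _ _ mid_part120))) (Log.Covers.trans mid (mid.covers_of_part _ _ _ mid_part121) (Log.Covers.trans mid (mid.covers_of_part _ _ _ mid_part122) (mid.covers_of_part _ _ _ mid_part123))))) (Log.Covers.trans mid (Log.Covers.trans mid (Log.Covers.trans mid (mid.covers_of_part _ _ _ mid_part124) (Log.Covers.trans mid (mid.covers_of_part _ _ _ mid_part125) (mid.covers_of_part _ _ _ mid_part126))) (Log.Covers.trans mid (mid.covers_of_part _ _ _ mid_part127) (Log.Covers.trans mid (mid.covers_of_part _ _ _ mid_part128) (mid.covers_of_part _ _ _ mid_part129)))) (Log.Covers.trans mid (Log.Covers.trans mid (mid.covers_of_part _ _ _ mid_part130) (Log.Covers.trans mid (mid.covers_of_part _ _ _ mid_part131) (mid.covers_of_part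 _ _ _ mid_part132))) (Log.Covers.trans mid (mid.covers_of_part _ _ _ mid_part133) (Log.Covers.trans mid (mid.covers_of_part _ _ _ mid_part134) (mid.covers_of_part _ _ _ mid_part135))))))) (Log.Covers.trans mid (Log.Covers.trans mid (Log.Covers.trans mid (Log.Covers.trans mid (Log.Covers.trans mid (mid.covers_of_part _ _ _ mid_part136) (mid.covers_of_part _ _ _ mid_part137)) (Log.Covers.trans mid (mid.covers_of_part _ _ _ mid_part138) (Log.Covers.trans mid (mid.covers_of_part _ _ _ mid_part139) (mid.covers_of_part _ _ _ mid_part140)))) (Log.Covers.trans mid (Log.Covers.trans mid (mid.covers_of_part _ _ _ mid_part141) (Log.Covers.trans mid (mid.covers_of_part _ _ _ mid_part142) (mid.covers_of_part _ _ _ mid_part143))) (Log.Covers.trans mid (mid.covers_of_part _ _ _ mid_part144) (Log.Covers.trans mid (mid.covers_of_part _ _ _ mid_part145) (mid.covers_of_part _ _ _ mid_part146))))) (Log.Covers.trans mid (Log.Covers.trans mid (Log.Covers.trans mid (mid.covers_of_part _ _ _ mid_part147) (Log.Covers.trans mid (mid.covers_of_part _ _ _ mid_part148) (mid.covers_of_part _ _ _ mid_part149))) (Log.Covers.trans mid (mid.covers_of_part _ _ _ mid_part150) (Log.Covers.trans mid (mid.covers_of_part _ _ _ mid_part151)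 (mid.covers_of_part _ _ _ mid_part152)))) (Log.Covers.trans mid (Log.Covers.trans mid (mid.covers_of_part _ _ _ mid_part153) (Log.Covers.trans mid (mid.covers_of_part _ _ _ mid_part154) (mid.covers_of_part _ _ _ mid_part155))) (Log.Covers.trans mid (mid.covers_of_part _ _ _ mid_part156) (Log.Covers.trans mid (mid.covers_of_part _ _ _ mid_part157) (mid.covers_of_part _ _ _ mid_part158)))))) (Log.Covers.trans mid (Log.Covers.trans mid (Log.Covers.trans mid (Log.Covers.trans mid (mid.covers_of_part _ _ _ mid_part159) (mid.covers_of_part _ _ _ mid_part160)) (Log.Covers.trans mid (mid.covers_of_part _ _ _ mid_part161) (Log.Covers.trans mid (mid.covers_of_part _ _ _ mid_part162) (mid.covers_of_part _ _ _ mid_part163)))) (Log.Covers.trans mid (Log.Covers.trans mid (mid.covers_of_part _ _ _ mid_part164) (Log.Covers.trans mid (mid.covers_of_part _ _ _ mid_part165) (mid.covers_of_part _ _ _ mid_part166))) (Log.Covers.trans mid (mid.covers_of_part _ _ _ mid_part167) (Log.Covers.trans mid (mid.covers_of_part _ _ _ mid_part168) (mid.covers_of_part _ _ _ mid_part169))))) (Log.Covers.trans mid (Log.Covers.trans mid (Log.Covers.trans mid (mid.covers_of_part _ _ _ mid_part170) (Log.Covers.trans mid (mid.covers_of_part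 _ _ _ mid_part171) (mid.covers_of_part _ _ _ mid_part172))) (Log.Covers.trans mid (mid.covers_of_part _ _ _ mid_part173) (Log.Covers.trans mid (mid.covers_of_part _ _ _ mid_part174) (mid.covers_of_part _ _ _ mid_part175)))) (Log.Covers.trans mid (Log.Covers.trans mid (mid.covers_of_part _ _ _ mid_part176) (Log.Covers.trans mid (mid.covers_of_part _ _ _ mid_part177) (mid.covers_of_part _ _ _ mid_part178))) (Log.Covers.trans mid (mid.covers_of_part _ _ _ mid_part179) (Log.Covers.trans mid (mid.covers_of_part _ _ _ mid_part180) (mid.covers_of_part _ _ _ mid_part181))))))))) rfl rfl

theorem mid_checks : mid.Checks where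
  pos := by decide +kernel
  defs := mid_defs
  facts := mid_facts
  final := by
    intro k hk
    change k < 28160 * 9 at hk
    refine of_allBlock (n := 253440) (size := 512) (by decide) (fun j hj => ?_) (by omega)
    have hj' : j < 495 := by omega
    interval_cases j
    · exact mid_final0
    · exact mid_final1
    · exact mid_final2
    · exact mid_final3
    · exact mid_final4
    · exact mid_final5
    · exact mid_final6
    · exact mid_final7
    · exact mid_final8
    · exact mid_final9
    · exact mid_final10
    · exact mid_final11
    · exact mid_final12
    · exact mid_final13
    · exact mid_final14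
    · exact mid_final15
    · exact mid_final16
    · exact mid_final17
    · exact mid_final18
    · exact mid_final19
    · exact mid_final20
    · exact mid_final21
    · exact mid_final22
    · exact mid_final23
    · exact mid_final24
    · exact mid_final25
    · exact mid_final26
    · exact mid_final27
    · exact mid_final28
    · exact mid_final29
    · exact mid_final30
    · exact mid_final31
    · exact mid_final32
    · exact mid_final33
    · exact mid_final34
    · exact mid_final35
    · exact mid_final36
    · exact mid_final37
    · exact mid_final38
    · exact mid_final39
    · exact mid_final40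
    · exact mid_final41
    · exact mid_final42
    · exact mid_final43
    · exact mid_final44
    · exact mid_final45
    · exact mid_final46
    · exact mid_final47
    · exact mid_final48
    · exact mid_final49
    · exact mid_final50
    · exact mid_final51
    · exact mid_final52
    · exact mid_final53
    · exact mid_final54
    · exact mid_final55
    · exact mid_final56
    · exact mid_final57
    · exact mid_final58
    · exact mid_final59
    · exact mid_final60
    · exact mid_final61
    · exact mid_final62
    · exact mid_final63
    · exact mid_final64
    · exact mid_final65
    · exact mid_final66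
    · exact mid_final67
    · exact mid_final68
    · exact mid_final69
    · exact mid_final70
    · exact mid_final71
    · exact mid_final72
    · exact mid_final73
    · exact mid_final74
    · exact mid_final75
    · exact mid_final76
    · exact mid_final77
    · exact mid_final78
    · exact mid_final79
    · exact mid_final80
    · exact mid_final81
    · exact mid_final82
    · exact mid_final83
    · exact mid_final84
    · exact mid_final85
    · exact mid_final86
    · exact mid_final87
    · exact mid_final88
    · exact mid_final89
    · exact mid_final90
    · exact mid_final91
    · exact mid_final92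
    · exact mid_final93
    · exact mid_final94
    · exact mid_final95
    · exact mid_final96
    · exact mid_final97
    · exact mid_final98
    · exact mid_final99
    · exact mid_final100
    · exact mid_final101
    · exact mid_final102
    · exact mid_final103
    · exact mid_final104
    · exact mid_final105
    · exact mid_final106
    · exact mid_final107
    · exact mid_final108
    · exact mid_final109
    · exact mid_final110
    · exact mid_final111
    · exact mid_final112
    · exact mid_final113
    · exact mid_final114
    · exact mid_final115
    · exact mid_final116
    · exact mid_final117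
    · exact mid_final118
    · exact mid_final119
    · exact mid_final120
    · exact mid_final121
    · exact mid_final122
    · exact mid_final123
    · exact mid_final124
    · exact mid_final125
    · exact mid_final126
    · exact mid_final127
    · exact mid_final128
    · exact mid_final129
    · exact mid_final130
    · exact mid_final131
    · exact mid_final132
    · exact mid_final133
    · exact mid_final134
    · exact mid_final135
    · exact mid_final136
    · exact mid_final137
    · exact mid_final138
    · exact mid_final139
    · exact mid_final140
    · exact mid_final141
    · exact mid_final142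
    · exact mid_final143
    · exact mid_final144
    · exact mid_final145
    · exact mid_final146
    · exact mid_final147
    · exact mid_final148
    · exact mid_final149
    · exact mid_final150
    · exact mid_final151
    · exact mid_final152
    · exact mid_final153
    · exact mid_final154
    · exact mid_final155
    · exact mid_final156
    · exact mid_final157
    · exact mid_final158
    · exact mid_final159
    · exact mid_final160
    · exact mid_final161
    · exact mid_final162
    · exact mid_final163
    · exact mid_final164
    · exact mid_final165
    · exact mid_final166
    · exact mid_final167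
    · exact mid_final168
    · exact mid_final169
    · exact mid_final170
    · exact mid_final171
    · exact mid_final172
    · exact mid_final173
    · exact mid_final174
    · exact mid_final175
    · exact mid_final176
    · exact mid_final177
    · exact mid_final178
    · exact mid_final179
    · exact mid_final180
    · exact mid_final181
    · exact mid_final182
    · exact mid_final183
    · exact mid_final184
    · exact mid_final185
    · exact mid_final186
    · exact mid_final187
    · exact mid_final188
    · exact mid_final189
    · exact mid_final190
    · exact mid_final191
    · exact mid_final192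
    · exact mid_final193
    · exact mid_final194
    · exact mid_final195
    · exact mid_final196
    · exact mid_final197
    · exact mid_final198
    · exact mid_final199
    · exact mid_final200
    · exact mid_final201
    · exact mid_final202
    · exact mid_final203
    · exact mid_final204
    · exact mid_final205
    · exact mid_final206
    · exact mid_final207
    · exact mid_final208
    · exact mid_final209
    · exact mid_final210
    · exact mid_final211
    · exact mid_final212
    · exact mid_final213
    · exact mid_final214
    · exact mid_final215
    · exact mid_final216
    · exact mid_final217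
    · exact mid_final218
    · exact mid_final219
    · exact mid_final220
    · exact mid_final221
    · exact mid_final222
    · exact mid_final223
    · exact mid_final224
    · exact mid_final225
    · exact mid_final226
    · exact mid_final227
    · exact mid_final228
    · exact mid_final229
    · exact mid_final230
    · exact mid_final231
    · exact mid_final232
    · exact mid_final233
    · exact mid_final234
    · exact mid_final235
    · exact mid_final236
    · exact mid_final237
    · exact mid_final238
    · exact mid_final239
    · exact mid_final240
    · exact mid_final241
    · exact mid_final242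
    · exact mid_final243
    · exact mid_final244
    · exact mid_final245
    · exact mid_final246
    · exact mid_final247
    · exact mid_final248
    · exact mid_final249
    · exact mid_final250
    · exact mid_final251
    · exact mid_final252
    · exact mid_final253
    · exact mid_final254
    · exact mid_final255
    · exact mid_final256
    · exact mid_final257
    · exact mid_final258
    · exact mid_final259
    · exact mid_final260
    · exact mid_final261
    · exact mid_final262
    · exact mid_final263
    · exact mid_final264
    · exact mid_final265
    · exact mid_final266
    · exact mid_final267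
    · exact mid_final268
    · exact mid_final269
    · exact mid_final270
    · exact mid_final271
    · exact mid_final272
    · exact mid_final273
    · exact mid_final274
    · exact mid_final275
    · exact mid_final276
    · exact mid_final277
    · exact mid_final278
    · exact mid_final279
    · exact mid_final280
    · exact mid_final281
    · exact mid_final282
    · exact mid_final283
    · exact mid_final284
    · exact mid_final285
    · exact mid_final286
    · exact mid_final287
    · exact mid_final288
    · exact mid_final289
    · exact mid_final290
    · exact mid_final291
    · exact mid_final292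
    · exact mid_final293
    · exact mid_final294
    · exact mid_final295
    · exact mid_final296
    · exact mid_final297
    · exact mid_final298
    · exact mid_final299
    · exact mid_final300
    · exact mid_final301
    · exact mid_final302
    · exact mid_final303
    · exact mid_final304
    · exact mid_final305
    · exact mid_final306
    · exact mid_final307
    · exact mid_final308
    · exact mid_final309
    · exact mid_final310
    · exact mid_final311
    · exact mid_final312
    · exact mid_final313
    · exact mid_final314
    · exact mid_final315
    · exact mid_final316
    · exact mid_final317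
    · exact mid_final318
    · exact mid_final319
    · exact mid_final320
    · exact mid_final321
    · exact mid_final322
    · exact mid_final323
    · exact mid_final324
    · exact mid_final325
    · exact mid_final326
    · exact mid_final327
    · exact mid_final328
    · exact mid_final329
    · exact mid_final330
    · exact mid_final331
    · exact mid_final332
    · exact mid_final333
    · exact mid_final334
    · exact mid_final335
    · exact mid_final336
    · exact mid_final337
    · exact mid_final338
    · exact mid_final339
    · exact mid_final340
    · exact mid_final341
    · exact mid_final342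
    · exact mid_final343
    · exact mid_final344
    · exact mid_final345
    · exact mid_final346
    · exact mid_final347
    · exact mid_final348
    · exact mid_final349
    · exact mid_final350
    · exact mid_final351
    · exact mid_final352
    · exact mid_final353
    · exact mid_final354
    · exact mid_final355
    · exact mid_final356
    · exact mid_final357
    · exact mid_final358
    · exact mid_final359
    · exact mid_final360
    · exact mid_final361
    · exact mid_final362
    · exact mid_final363
    · exact mid_final364
    · exact mid_final365
    · exact mid_final366
    · exact mid_final367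
    · exact mid_final368
    · exact mid_final369
    · exact mid_final370
    · exact mid_final371
    · exact mid_final372
    · exact mid_final373
    · exact mid_final374
    · exact mid_final375
    · exact mid_final376
    · exact mid_final377
    · exact mid_final378
    · exact mid_final379
    · exact mid_final380
    · exact mid_final381
    · exact mid_final382
    · exact mid_final383
    · exact mid_final384
    · exact mid_final385
    · exact mid_final386
    · exact mid_final387
    · exact mid_final388
    · exact mid_final389
    · exact mid_final390
    · exact mid_final391
    · exact mid_final392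
    · exact mid_final393
    · exact mid_final394
    · exact mid_final395
    · exact mid_final396
    · exact mid_final397
    · exact mid_final398
    · exact mid_final399
    · exact mid_final400
    · exact mid_final401
    · exact mid_final402
    · exact mid_final403
    · exact mid_final404
    · exact mid_final405
    · exact mid_final406
    · exact mid_final407
    · exact mid_final408
    · exact mid_final409
    · exact mid_final410
    · exact mid_final411
    · exact mid_final412
    · exact mid_final413
    · exact mid_final414
    · exact mid_final415
    · exact mid_final416
    · exact mid_final417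
    · exact mid_final418
    · exact mid_final419
    · exact mid_final420
    · exact mid_final421
    · exact mid_final422
    · exact mid_final423
    · exact mid_final424
    · exact mid_final425
    · exact mid_final426
    · exact mid_final427
    · exact mid_final428
    · exact mid_final429
    · exact mid_final430
    · exact mid_final431
    · exact mid_final432
    · exact mid_final433
    · exact mid_final434
    · exact mid_final435
    · exact mid_final436
    · exact mid_final437
    · exact mid_final438
    · exact mid_final439
    · exact mid_final440
    · exact mid_final441
    · exact mid_final442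
    · exact mid_final443
    · exact mid_final444
    · exact mid_final445
    · exact mid_final446
    · exact mid_final447
    · exact mid_final448
    · exact mid_final449
    · exact mid_final450
    · exact mid_final451
    · exact mid_final452
    · exact mid_final453
    · exact mid_final454
    · exact mid_final455
    · exact mid_final456
    · exact mid_final457
    · exact mid_final458
    · exact mid_final459
    · exact mid_final460
    · exact mid_final461
    · exact mid_final462
    · exact mid_final463
    · exact mid_final464
    · exact mid_final465
    · exact mid_final466
    · exact mid_final467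
    · exact mid_final468
    · exact mid_final469
    · exact mid_final470
    · exact mid_final471
    · exact mid_final472
    · exact mid_final473
    · exact mid_final474
    · exact mid_final475
    · exact mid_final476
    · exact mid_final477
    · exact mid_final478
    · exact mid_final479
    · exact mid_final480
    · exact mid_final481
    · exact mid_final482
    · exact mid_final483
    · exact mid_final484
    · exact mid_final485
    · exact mid_final486
    · exact mid_final487
    · exact mid_final488
    · exact mid_final489
    · exact mid_final490
    · exact mid_final491
    · exact mid_final492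
    · exact mid_final493
    · exact mid_final494

theorem mid_derived : mid.rels.all (derivedOk mid.n midBase) = true := by decide +kernel

end Cfsg.Agent.Spor.Cos.Fi23
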