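import Cfsg.Agent.Lib.Spor.Cos.Fi23.MidData

/-! A checked coset enumeration. -/

set_option autoImplicit false
set_option maxRecDepth 100000
set_option maxHeartbeats 4000000

namespace Cfsg.Agent.Spor.Cos.Fi23

theorem mid_final362 : allBlock mid.chkFinal 253440 512 362 = true := by decide +kernel

theorem mid_final363 : allBlock mid.chkFinal 253440 512 363 = true := by decide +kernel

theorem mid_final364 : allBlock mid.chkFinal 253440 512 364 = true := by decide +kernel

theorem mid_final365 : allBlock mid.chkFinal 253440 512 365 = true := by decide +kernel

theorem mid_final366 : allBlock mid.chkFinal 253440 512 366 = true := by decide +kernel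

theorem mid_final367 : allBlock mid.chkFinal 253440 512 367 = true := by decide +kernel

theorem mid_final368 : allBlock mid.chkFinal 253440 512 368 = true := by decide +kernel

theorem mid_final369 : allBlock mid.chkFinal 253440 512 369 = true := by decide +kernel

theorem mid_final370 : allBlock mid.chkFinal 253440 512 370 = true := by decide +kernel

theorem mid_final371 : allBlock mid.chkFinal 253440 512 371 = true := by decide +kernel

theorem mid_final372 : allBlock mid.chkFinal 253440 512 372 = true := by decide +kernel

theorem mid_final373 : allBlock mid.chkFinal 253440 512 373 = true := by decide +kernel

theorem mid_final374 : allBlock mid.chkFinal 253440 512 374 = true := by decide +kernel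

theorem mid_final375 : allBlock mid.chkFinal 253440 512 375 = true := by decide +kernel

theorem mid_final376 : allBlock mid.chkFinal 253440 512 376 = true := by decide +kernel

theorem mid_final377 : allBlock mid.chkFinal 253440 512 377 = true := by decide +kernel

theorem mid_final378 : allBlock mid.chkFinal 253440 512 378 = true := by decide +kernel

theorem mid_final379 : allBlock mid.chkFinal 253440 512 379 = true := by decide +kernel

theorem mid_final380 : allBlock mid.chkFinal 253440 512 380 = true := by decide +kernel

theorem mid_final381 : allBlock mid.chkFinal 253440 512 381 = true := by decide +kernel

theorem mid_final382 : allBlock mid.chkFinal 253440 512 382 = true := by decide +kernel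

theorem mid_final383 : allBlock mid.chkFinal 253440 512 383 = true := by decide +kernel

theorem mid_final384 : allBlock mid.chkFinal 253440 512 384 = true := by decide +kernel

theorem mid_final385 : allBlock mid.chkFinal 253440 512 385 = true := by decide +kernel

theorem mid_final386 : allBlock mid.chkFinal 253440 512 386 = true := by decide +kernel

theorem mid_final387 : allBlock mid.chkFinal 253440 512 387 = true := by decide +kernel

theorem mid_final388 : allBlock mid.chkFinal 253440 512 388 = true := by decide +kernel

theorem mid_final389 : allBlock mid.chkFinal 253440 512 389 = true := by decide +kernel

theorem mid_final390 : allBlock mid.chkFinal 253440 512 390 = true := by decide +kernel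

theorem mid_final391 : allBlock mid.chkFinal 253440 512 391 = true := by decide +kernel

theorem mid_final392 : allBlock mid.chkFinal 253440 512 392 = true := by decide +kernel

theorem mid_final393 : allBlock mid.chkFinal 253440 512 393 = true := by decide +kernel

theorem mid_final394 : allBlock mid.chkFinal 253440 512 394 = true := by decide +kernel

theorem mid_final395 : allBlock mid.chkFinal 253440 512 395 = true := by decide +kernel

theorem mid_final396 : allBlock mid.chkFinal 253440 512 396 = true := by decide +kernel

theorem mid_final397 : allBlock mid.chkFinal 253440 512 397 = true := by decide +kernel

theorem mid_final398 : allBlock mid.chkFinal 253440 512 398 = true := by decide +kernel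

theorem mid_final399 : allBlock mid.chkFinal 253440 512 399 = true := by decide +kernel

theorem mid_final400 : allBlock mid.chkFinal 253440 512 400 = true := by decide +kernel

theorem mid_final401 : allBlock mid.chkFinal 253440 512 401 = true := by decide +kernel

end Cfsg.Agent.Spor.Cos.Fi23
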