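import Cfsg.Agent.Lib.Spor.Cos.Fi23.O7Part0
import Cfsg.Agent.Lib.Spor.Cos.Fi23.O7Part1
import Cfsg.Agent.Lib.Spor.Cos.Fi23.O7Part2

/-! A checked coset enumeration. -/

set_option autoImplicit false
set_option maxRecDepth 100000
set_option maxHeartbeats 4000000

namespace Cfsg.Agent.Spor.Cos.Fi23

theorem o7_def0 : allBlock o7.chkDef 10539 512 0 = true := by decide +kernel

theorem o7_def1 : allBlock o7.chkDef 10539 512 1 = true := by decide +kernel

theorem o7_def2 : allBlock o7.chkDef 10539 512 2 = true := by decide +kernel

theorem o7_def3 : allBlock o7.chkDef 10539 512 3 = true := by decide +kernel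

theorem o7_def4 : allBlock o7.chkDef 10539 512 4 = true := by decide +kernel

theorem o7_def5 : allBlock o7.chkDef 10539 512 5 = true := by decide +kernel

theorem o7_def6 : allBlock o7.chkDef 10539 512 6 = true := by decide +kernel

theorem o7_def7 : allBlock o7.chkDef 10539 512 7 = true := by decide +kernel

theorem o7_def8 : allBlock o7.chkDef 10539 512 8 = true := by decide +kernel

theorem o7_def9 : allBlock o7.chkDef 10539 512 9 = true := by decide +kernel

theorem o7_def10 : allBlock o7.chkDef 10539 512 10 = true := by decide +kernel

theorem o7_def11 : allBlock o7.chkDef 10539 512 11 = true := by decide +kernel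

theorem o7_def12 : allBlock o7.chkDef 10539 512 12 = true := by decide +kernel

theorem o7_def13 : allBlock o7.chkDef 10539 512 13 = true := by decide +kernel

theorem o7_def14 : allBlock o7.chkDef 10539 512 14 = true := by decide +kernel

theorem o7_def15 : allBlock o7.chkDef 10539 512 15 = true := by decide +kernel

theorem o7_def16 : allBlock o7.chkDef 10539 512 16 = true := by decide +kernel

theorem o7_def17 : allBlock o7.chkDef 10539 512 17 = true := by decide +kernel

theorem o7_def18 : allBlock o7.chkDef 10539 512 18 = true := by decide +kernel

theorem o7_def19 : allBlock o7.chkDef 10539 512 19 = true := by decide +kernel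

theorem o7_def20 : allBlock o7.chkDef 10539 512 20 = true := by decide +kernel

theorem o7_defs : ∀ i, i + 1 < o7.M → o7.chkDef i = true := by
  intro i hi
  change i + 1 < 10540 at hi
  refine of_allBlock (n := 10539) (size := 512) (by decide) (fun j hj => ?_) (by omega)
  have hj' : j < 21 := by omega
  interval_cases j
  · exact o7_def0
  · exact o7_def1
  · exact o7_def2
  · exact o7_def3
  · exact o7_def4
  · exact o7_def5
  · exact o7_def6
  · exact o7_def7
  · exact o7_def8
  · exact o7_def9
  · exact o7_def10
  · exact o7_def11
  · exact o7_def12
  · exact o7_def13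
  · exact o7_def14
  · exact o7_def15
  · exact o7_def16
  · exact o7_def17
  · exact o7_def18
  · exact o7_def19
  · exact o7_def20

theorem o7_facts : ∀ i, o7.M ≤ i + 1 → i < o7.nF → ∃ J, o7.chkFact i J = true := by
  exact o7.facts_of_covers (Log.Covers.trans o7 (Log.Covers.trans o7 (Log.Covers.trans o7 (Log.Covers.trans o7 (Log.Covers.trans o7 (o7.covers_of_part _ _ _ o7_part0) (o7.covers_of_part _ _ _ o7_part1)) (Log.Covers.trans o7 (o7.covers_of_part _ _ _ o7_part2) (o7.covers_of_part _ _ _ o7_part3))) (Log.Covers.trans o7 (Log.Covers.trans o7 (o7.covers_of_part _ _ _ o7_part4) (o7.covers_of_part _ _ _ o7_part5)) (Log.Covers.trans o7 (o7.covers_of_part _ _ _ o7_part6) (o7.covers_of_part _ _ _ o7_part7)))) (Log.Covers.trans o7 (Log.Covers.trans o7 (Log.Covers.trans o7 (o7.covers_of_part _ _ _ o7_part8) (o7.covers_of_part _ _ _ o7_part9)) (Log.Covers.trans o7 (o7.covers_of_part _ _ _ o7_part10) (o7.covers_of_part _ _ _ o7_part11))) (Log.Covers.trans o7 (Log.Covers.trans o7 (o7.covers_of_part _ _ _ o7_part12) (o7.covers_of_part _ _ _ o7_part13)) (Log.Covers.trans o7 (o7.covers_of_part _ _ _ o7_part14) (Log.Covers.trans o7 (o7.covers_of_part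 _ _ _ o7_part15) (o7.covers_of_part _ _ _ o7_part16)))))) (Log.Covers.trans o7 (Log.Covers.trans o7 (Log.Covers.trans o7 (Log.Covers.trans o7 (o7.covers_of_part _ _ _ o7_part17) (o7.covers_of_part _ _ _ o7_part18)) (Log.Covers.trans o7 (o7.covers_of_part _ _ _ o7_part19) (o7.covers_of_part _ _ _ o7_part20))) (Log.Covers.trans o7 (Log.Covers.trans o7 (o7.covers_of_part _ _ _ o7_part21) (o7.covers_of_part _ _ _ o7_part22)) (Log.Covers.trans o7 (o7.covers_of_part _ _ _ o7_part23) (Log.Covers.trans o7 (o7.covers_of_part _ _ _ o7_part24) (o7.covers_of_part _ _ _ o7_part25))))) (Log.Covers.trans o7 (Log.Covers.trans o7 (Log.Covers.trans o7 (o7.covers_of_part _ _ _ o7_part26) (o7.covers_of_part _ _ _ o7_part27)) (Log.Covers.trans o7 (o7.covers_of_part _ _ _ o7_part28) (o7.covers_of_part _ _ _ o7_part29))) (Log.Covers.trans o7 (Log.Covers.trans o7 (o7.covers_of_part _ _ _ o7_part30) (o7.covers_of_part _ _ _ o7_part31)) (Log.Covers.trans o7 (o7.covers_of_part _ _ _ o7_part32) (Log.Covers.trans o7 (o7.covers_of_part _ _ _ o7_part33) (o7.covers_of_part _ _ _ o7_part34))))))) rfl rfl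

theorem o7_final0 : allBlock o7.chkFinal 25272 512 0 = true := by decide +kernel

theorem o7_final1 : allBlock o7.chkFinal 25272 512 1 = true := by decide +kernel

theorem o7_final2 : allBlock o7.chkFinal 25272 512 2 = true := by decide +kernel

theorem o7_final3 : allBlock o7.chkFinal 25272 512 3 = true := by decide +kernel

theorem o7_final4 : allBlock o7.chkFinal 25272 512 4 = true := by decide +kernel

theorem o7_final5 : allBlock o7.chkFinal 25272 512 5 = true := by decide +kernel

theorem o7_final6 : allBlock o7.chkFinal 25272 512 6 = true := by decide +kernel

theorem o7_final7 : allBlock o7.chkFinal 25272 512 7 = true := by decide +kernel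

theorem o7_final8 : allBlock o7.chkFinal 25272 512 8 = true := by decide +kernel

theorem o7_final9 : allBlock o7.chkFinal 25272 512 9 = true := by decide +kernel

theorem o7_final10 : allBlock o7.chkFinal 25272 512 10 = true := by decide +kernel

theorem o7_final11 : allBlock o7.chkFinal 25272 512 11 = true := by decide +kernel

theorem o7_final12 : allBlock o7.chkFinal 25272 512 12 = true := by decide +kernel

theorem o7_final13 : allBlock o7.chkFinal 25272 512 13 = true := by decide +kernel

theorem o7_final14 : allBlock o7.chkFinal 25272 512 14 = true := by decide +kernel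

theorem o7_final15 : allBlock o7.chkFinal 25272 512 15 = true := by decide +kernel

theorem o7_final16 : allBlock o7.chkFinal 25272 512 16 = true := by decide +kernel

theorem o7_final17 : allBlock o7.chkFinal 25272 512 17 = true := by decide +kernel

theorem o7_final18 : allBlock o7.chkFinal 25272 512 18 = true := by decide +kernel

theorem o7_final19 : allBlock o7.chkFinal 25272 512 19 = true := by decide +kernel

theorem o7_final20 : allBlock o7.chkFinal 25272 512 20 = true := by decide +kernel

theorem o7_final21 : allBlock o7.chkFinal 25272 512 21 = true := by decide +kernel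

theorem o7_final22 : allBlock o7.chkFinal 25272 512 22 = true := by decide +kernel

theorem o7_final23 : allBlock o7.chkFinal 25272 512 23 = true := by decide +kernel

theorem o7_final24 : allBlock o7.chkFinal 25272 512 24 = true := by decide +kernel

theorem o7_final25 : allBlock o7.chkFinal 25272 512 25 = true := by decide +kernel

theorem o7_final26 : allBlock o7.chkFinal 25272 512 26 = true := by decide +kernel

theorem o7_final27 : allBlock o7.chkFinal 25272 512 27 = true := by decide +kernel

theorem o7_final28 : allBlock o7.chkFinal 25272 512 28 = true := by decide +kernel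

theorem o7_final29 : allBlock o7.chkFinal 25272 512 29 = true := by decide +kernel

theorem o7_final30 : allBlock o7.chkFinal 25272 512 30 = true := by decide +kernel

theorem o7_final31 : allBlock o7.chkFinal 25272 512 31 = true := by decide +kernel

theorem o7_final32 : allBlock o7.chkFinal 25272 512 32 = true := by decide +kernel

theorem o7_final33 : allBlock o7.chkFinal 25272 512 33 = true := by decide +kernel

theorem o7_final34 : allBlock o7.chkFinal 25272 512 34 = true := by decide +kernel

theorem o7_final35 : allBlock o7.chkFinal 25272 512 35 = true := by decide +kernel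

theorem o7_final36 : allBlock o7.chkFinal 25272 512 36 = true := by decide +kernel

theorem o7_final37 : allBlock o7.chkFinal 25272 512 37 = true := by decide +kernel

theorem o7_final38 : allBlock o7.chkFinal 25272 512 38 = true := by decide +kernel

theorem o7_final39 : allBlock o7.chkFinal 25272 512 39 = true := by decide +kernel

theorem o7_final40 : allBlock o7.chkFinal 25272 512 40 = true := by decide +kernel

theorem o7_final41 : allBlock o7.chkFinal 25272 512 41 = true := by decide +kernel

theorem o7_final42 : allBlock o7.chkFinal 25272 512 42 = true := by decide +kernel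

theorem o7_final43 : allBlock o7.chkFinal 25272 512 43 = true := by decide +kernel

theorem o7_final44 : allBlock o7.chkFinal 25272 512 44 = true := by decide +kernel

theorem o7_final45 : allBlock o7.chkFinal 25272 512 45 = true := by decide +kernel

theorem o7_final46 : allBlock o7.chkFinal 25272 512 46 = true := by decide +kernel

theorem o7_final47 : allBlock o7.chkFinal 25272 512 47 = true := by decide +kernel

theorem o7_final48 : allBlock o7.chkFinal 25272 512 48 = true := by decide +kernel

theorem o7_final49 : allBlock o7.chkFinal 25272 512 49 = true := by decide +kernel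

theorem o7_checks : o7.Checks where
  pos := by decide +kernel
  defs := o7_defs
  facts := o7_facts
  final := by
    intro k hk
    change k < 3159 * 8 at hk
    refine of_allBlock (n := 25272) (size := 512) (by decide) (fun j hj => ?_) (by omega)
    have hj' : j < 50 := by omega
    interval_cases j
    · exact o7_final0
    · exact o7_final1
    · exact o7_final2
    · exact o7_final3
    · exact o7_final4
    · exact o7_final5
    · exact o7_final6
    · exact o7_final7
    · exact o7_final8
    · exact o7_final9
    · exact o7_final10
    · exact o7_final11
    · exact o7_final12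
    · exact o7_final13
    · exact o7_final14
    · exact o7_final15
    · exact o7_final16
    · exact o7_final17
    · exact o7_final18
    · exact o7_final19
    · exact o7_final20
    · exact o7_final21
    · exact o7_final22
    · exact o7_final23
    · exact o7_final24
    · exact o7_final25
    · exact o7_final26
    · exact o7_final27
    · exact o7_final28
    · exact o7_final29
    · exact o7_final30
    · exact o7_final31
    · exact o7_final32
    · exact o7_final33
    · exact o7_final34
    · exact o7_final35
    · exact o7_final36
    · exact o7_final37
    · exact o7_final38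
    · exact o7_final39
    · exact o7_final40
    · exact o7_final41
    · exact o7_final42
    · exact o7_final43
    · exact o7_final44
    · exact o7_final45
    · exact o7_final46
    · exact o7_final47
    · exact o7_final48
    · exact o7_final49

theorem o7_derived : o7.rels.all (derivedOk o7.n o7Base) = true := by decide +kernel

end Cfsg.Agent.Spor.Cos.Fi23
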