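import Cfsg.Agent.Lib.Spor.Cos.Fi23.TopData

/-! A checked coset enumeration. -/

set_option autoImplicit false
set_option maxRecDepth 100000
set_option maxHeartbeats 4000000

namespace Cfsg.Agent.Spor.Cos.Fi23

theorem top_final382 : allBlock top.chkFinal 316710 512 382 = true := by decide +kernel

theorem top_final383 : allBlock top.chkFinal 316710 512 383 = true := by decide +kernel

theorem top_final384 : allBlock top.chkFinal 316710 512 384 = true := by decide +kernel

theorem top_final385 : allBlock top.chkFinal 316710 512 385 = true := by decide +kernel

theorem top_final386 : allBlock top.chkFinal 316710 512 386 = true := by decide +kernel

theorem top_final387 : allBlock top.chkFinal 316710 512 387 = true := by decide +kernel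

theorem top_final388 : allBlock top.chkFinal 316710 512 388 = true := by decide +kernel

theorem top_final389 : allBlock top.chkFinal 316710 512 389 = true := by decide +kernel

theorem top_final390 : allBlock top.chkFinal 316710 512 390 = true := by decide +kernel

theorem top_final391 : allBlock top.chkFinal 316710 512 391 = true := by decide +kernel

theorem top_final392 : allBlock top.chkFinal 316710 512 392 = true := by decide +kernel

theorem top_final393 : allBlock top.chkFinal 316710 512 393 = true := by decide +kernel

theorem top_final394 : allBlock top.chkFinal 316710 512 394 = true := by decide +kernel

theorem top_final395 : allBlock top.chkFinal 316710 512 395 = true := by decide +kernel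

theorem top_final396 : allBlock top.chkFinal 316710 512 396 = true := by decide +kernel

theorem top_final397 : allBlock top.chkFinal 316710 512 397 = true := by decide +kernel

theorem top_final398 : allBlock top.chkFinal 316710 512 398 = true := by decide +kernel

theorem top_final399 : allBlock top.chkFinal 316710 512 399 = true := by decide +kernel

theorem top_final400 : allBlock top.chkFinal 316710 512 400 = true := by decide +kernel

theorem top_final401 : allBlock top.chkFinal 316710 512 401 = true := by decide +kernel

theorem top_final402 : allBlock top.chkFinal 316710 512 402 = true := by decide +kernel

theorem top_final403 : allBlock top.chkFinal 316710 512 403 = true := by decide +kernel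

theorem top_final404 : allBlock top.chkFinal 316710 512 404 = true := by decide +kernel

theorem top_final405 : allBlock top.chkFinal 316710 512 405 = true := by decide +kernel

theorem top_final406 : allBlock top.chkFinal 316710 512 406 = true := by decide +kernel

theorem top_final407 : allBlock top.chkFinal 316710 512 407 = true := by decide +kernel

theorem top_final408 : allBlock top.chkFinal 316710 512 408 = true := by decide +kernel

theorem top_final409 : allBlock top.chkFinal 316710 512 409 = true := by decide +kernel

theorem top_final410 : allBlock top.chkFinal 316710 512 410 = true := by decide +kernel

theorem top_final411 : allBlock top.chkFinal 316710 512 411 = true := by decide +kernel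

theorem top_final412 : allBlock top.chkFinal 316710 512 412 = true := by decide +kernel

theorem top_final413 : allBlock top.chkFinal 316710 512 413 = true := by decide +kernel

theorem top_final414 : allBlock top.chkFinal 316710 512 414 = true := by decide +kernel

theorem top_final415 : allBlock top.chkFinal 316710 512 415 = true := by decide +kernel

theorem top_final416 : allBlock top.chkFinal 316710 512 416 = true := by decide +kernel

theorem top_final417 : allBlock top.chkFinal 316710 512 417 = true := by decide +kernel

theorem top_final418 : allBlock top.chkFinal 316710 512 418 = true := by decide +kernel

theorem top_final419 : allBlock top.chkFinal 316710 512 419 = true := by decide +kernel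

theorem top_final420 : allBlock top.chkFinal 316710 512 420 = true := by decide +kernel

theorem top_final421 : allBlock top.chkFinal 316710 512 421 = true := by decide +kernel

end Cfsg.Agent.Spor.Cos.Fi23
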