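import Cfsg.Agent.Lib.Spor.Cos.Fi23.TopData

/-! A checked coset enumeration. -/

set_option autoImplicit false
set_option maxRecDepth 100000
set_option maxHeartbeats 4000000

namespace Cfsg.Agent.Spor.Cos.Fi23

theorem top_final422 : allBlock top.chkFinal 316710 512 422 = true := by decide +kernel

theorem top_final423 : allBlock top.chkFinal 316710 512 423 = true := by decide +kernel

theorem top_final424 : allBlock top.chkFinal 316710 512 424 = true := by decide +kernel

theorem top_final425 : allBlock top.chkFinal 316710 512 425 = true := by decide +kernel

theorem top_final426 : allBlock top.chkFinal 316710 512 426 = true := by decide +kernel

theorem top_final427 : allBlock top.chkFinal 316710 512 427 = true := by decide +kernel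

theorem top_final428 : allBlock top.chkFinal 316710 512 428 = true := by decide +kernel

theorem top_final429 : allBlock top.chkFinal 316710 512 429 = true := by decide +kernel

theorem top_final430 : allBlock top.chkFinal 316710 512 430 = true := by decide +kernel

theorem top_final431 : allBlock top.chkFinal 316710 512 431 = true := by decide +kernel

theorem top_final432 : allBlock top.chkFinal 316710 512 432 = true := by decide +kernel

theorem top_final433 : allBlock top.chkFinal 316710 512 433 = true := by decide +kernel

theorem top_final434 : allBlock top.chkFinal 316710 512 434 = true := by decide +kernel

theorem top_final435 : allBlock top.chkFinal 316710 512 435 = true := by decide +kernel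

theorem top_final436 : allBlock top.chkFinal 316710 512 436 = true := by decide +kernel

theorem top_final437 : allBlock top.chkFinal 316710 512 437 = true := by decide +kernel

theorem top_final438 : allBlock top.chkFinal 316710 512 438 = true := by decide +kernel

theorem top_final439 : allBlock top.chkFinal 316710 512 439 = true := by decide +kernel

theorem top_final440 : allBlock top.chkFinal 316710 512 440 = true := by decide +kernel

theorem top_final441 : allBlock top.chkFinal 316710 512 441 = true := by decide +kernel

theorem top_final442 : allBlock top.chkFinal 316710 512 442 = true := by decide +kernel

theorem top_final443 : allBlock top.chkFinal 316710 512 443 = true := by decide +kernel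

theorem top_final444 : allBlock top.chkFinal 316710 512 444 = true := by decide +kernel

theorem top_final445 : allBlock top.chkFinal 316710 512 445 = true := by decide +kernel

theorem top_final446 : allBlock top.chkFinal 316710 512 446 = true := by decide +kernel

theorem top_final447 : allBlock top.chkFinal 316710 512 447 = true := by decide +kernel

theorem top_final448 : allBlock top.chkFinal 316710 512 448 = true := by decide +kernel

theorem top_final449 : allBlock top.chkFinal 316710 512 449 = true := by decide +kernel

theorem top_final450 : allBlock top.chkFinal 316710 512 450 = true := by decide +kernel

theorem top_final451 : allBlock top.chkFinal 316710 512 451 = true := by decide +kernel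

theorem top_final452 : allBlock top.chkFinal 316710 512 452 = true := by decide +kernel

theorem top_final453 : allBlock top.chkFinal 316710 512 453 = true := by decide +kernel

theorem top_final454 : allBlock top.chkFinal 316710 512 454 = true := by decide +kernel

theorem top_final455 : allBlock top.chkFinal 316710 512 455 = true := by decide +kernel

theorem top_final456 : allBlock top.chkFinal 316710 512 456 = true := by decide +kernel

theorem top_final457 : allBlock top.chkFinal 316710 512 457 = true := by decide +kernel

theorem top_final458 : allBlock top.chkFinal 316710 512 458 = true := by decide +kernel

theorem top_final459 : allBlock top.chkFinal 316710 512 459 = true := by decide +kernel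

theorem top_final460 : allBlock top.chkFinal 316710 512 460 = true := by decide +kernel

theorem top_final461 : allBlock top.chkFinal 316710 512 461 = true := by decide +kernel

end Cfsg.Agent.Spor.Cos.Fi23
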