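import Cfsg.Agent.Lib.Spor.Cos.Fi23.TopData

/-! A checked coset enumeration. -/

set_option autoImplicit false
set_option maxRecDepth 100000
set_option maxHeartbeats 4000000

namespace Cfsg.Agent.Spor.Cos.Fi23

theorem top_final462 : allBlock top.chkFinal 316710 512 462 = true := by decide +kernel

theorem top_final463 : allBlock top.chkFinal 316710 512 463 = true := by decide +kernel

theorem top_final464 : allBlock top.chkFinal 316710 512 464 = true := by decide +kernel

theorem top_final465 : allBlock top.chkFinal 316710 512 465 = true := by decide +kernel

theorem top_final466 : allBlock top.chkFinal 316710 512 466 = true := by decide +kernel

theorem top_final467 : allBlock top.chkFinal 316710 512 467 = true := by decide +kernel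

theorem top_final468 : allBlock top.chkFinal 316710 512 468 = true := by decide +kernel

theorem top_final469 : allBlock top.chkFinal 316710 512 469 = true := by decide +kernel

theorem top_final470 : allBlock top.chkFinal 316710 512 470 = true := by decide +kernel

theorem top_final471 : allBlock top.chkFinal 316710 512 471 = true := by decide +kernel

theorem top_final472 : allBlock top.chkFinal 316710 512 472 = true := by decide +kernel

theorem top_final473 : allBlock top.chkFinal 316710 512 473 = true := by decide +kernel

theorem top_final474 : allBlock top.chkFinal 316710 512 474 = true := by decide +kernel

theorem top_final475 : allBlock top.chkFinal 316710 512 475 = true := by decide +kernel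

theorem top_final476 : allBlock top.chkFinal 316710 512 476 = true := by decide +kernel

theorem top_final477 : allBlock top.chkFinal 316710 512 477 = true := by decide +kernel

theorem top_final478 : allBlock top.chkFinal 316710 512 478 = true := by decide +kernel

theorem top_final479 : allBlock top.chkFinal 316710 512 479 = true := by decide +kernel

theorem top_final480 : allBlock top.chkFinal 316710 512 480 = true := by decide +kernel

theorem top_final481 : allBlock top.chkFinal 316710 512 481 = true := by decide +kernel

theorem top_final482 : allBlock top.chkFinal 316710 512 482 = true := by decide +kernel

theorem top_final483 : allBlock top.chkFinal 316710 512 483 = true := by decide +kernel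

theorem top_final484 : allBlock top.chkFinal 316710 512 484 = true := by decide +kernel

theorem top_final485 : allBlock top.chkFinal 316710 512 485 = true := by decide +kernel

theorem top_final486 : allBlock top.chkFinal 316710 512 486 = true := by decide +kernel

theorem top_final487 : allBlock top.chkFinal 316710 512 487 = true := by decide +kernel

theorem top_final488 : allBlock top.chkFinal 316710 512 488 = true := by decide +kernel

theorem top_final489 : allBlock top.chkFinal 316710 512 489 = true := by decide +kernel

theorem top_final490 : allBlock top.chkFinal 316710 512 490 = true := by decide +kernel

theorem top_final491 : allBlock top.chkFinal 316710 512 491 = true := by decide +kernel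

theorem top_final492 : allBlock top.chkFinal 316710 512 492 = true := by decide +kernel

theorem top_final493 : allBlock top.chkFinal 316710 512 493 = true := by decide +kernel

theorem top_final494 : allBlock top.chkFinal 316710 512 494 = true := by decide +kernel

theorem top_final495 : allBlock top.chkFinal 316710 512 495 = true := by decide +kernel

theorem top_final496 : allBlock top.chkFinal 316710 512 496 = true := by decide +kernel

theorem top_final497 : allBlock top.chkFinal 316710 512 497 = true := by decide +kernel

theorem top_final498 : allBlock top.chkFinal 316710 512 498 = true := by decide +kernel

theorem top_final499 : allBlock top.chkFinal 316710 512 499 = true := by decide +kernel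

theorem top_final500 : allBlock top.chkFinal 316710 512 500 = true := by decide +kernel

theorem top_final501 : allBlock top.chkFinal 316710 512 501 = true := by decide +kernel

end Cfsg.Agent.Spor.Cos.Fi23
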