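import Cfsg.Agent.Lib.Spor.Cos.Fi23.TopData

/-! A checked coset enumeration. -/

set_option autoImplicit false
set_option maxRecDepth 100000
set_option maxHeartbeats 4000000

namespace Cfsg.Agent.Spor.Cos.Fi23

theorem top_final542 : allBlock top.chkFinal 316710 512 542 = true := by decide +kernel

theorem top_final543 : allBlock top.chkFinal 316710 512 543 = true := by decide +kernel

theorem top_final544 : allBlock top.chkFinal 316710 512 544 = true := by decide +kernel

theorem top_final545 : allBlock top.chkFinal 316710 512 545 = true := by decide +kernel

theorem top_final546 : allBlock top.chkFinal 316710 512 546 = true := by decide +kernel

theorem top_final547 : allBlock top.chkFinal 316710 512 547 = true := by decide +kernel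

theorem top_final548 : allBlock top.chkFinal 316710 512 548 = true := by decide +kernel

theorem top_final549 : allBlock top.chkFinal 316710 512 549 = true := by decide +kernel

theorem top_final550 : allBlock top.chkFinal 316710 512 550 = true := by decide +kernel

theorem top_final551 : allBlock top.chkFinal 316710 512 551 = true := by decide +kernel

theorem top_final552 : allBlock top.chkFinal 316710 512 552 = true := by decide +kernel

theorem top_final553 : allBlock top.chkFinal 316710 512 553 = true := by decide +kernel

theorem top_final554 : allBlock top.chkFinal 316710 512 554 = true := by decide +kernel

theorem top_final555 : allBlock top.chkFinal 316710 512 555 = true := by decide +kernel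

theorem top_final556 : allBlock top.chkFinal 316710 512 556 = true := by decide +kernel

theorem top_final557 : allBlock top.chkFinal 316710 512 557 = true := by decide +kernel

theorem top_final558 : allBlock top.chkFinal 316710 512 558 = true := by decide +kernel

theorem top_final559 : allBlock top.chkFinal 316710 512 559 = true := by decide +kernel

theorem top_final560 : allBlock top.chkFinal 316710 512 560 = true := by decide +kernel

theorem top_final561 : allBlock top.chkFinal 316710 512 561 = true := by decide +kernel

theorem top_final562 : allBlock top.chkFinal 316710 512 562 = true := by decide +kernel

theorem top_final563 : allBlock top.chkFinal 316710 512 563 = true := by decide +kernel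

theorem top_final564 : allBlock top.chkFinal 316710 512 564 = true := by decide +kernel

theorem top_final565 : allBlock top.chkFinal 316710 512 565 = true := by decide +kernel

theorem top_final566 : allBlock top.chkFinal 316710 512 566 = true := by decide +kernel

theorem top_final567 : allBlock top.chkFinal 316710 512 567 = true := by decide +kernel

theorem top_final568 : allBlock top.chkFinal 316710 512 568 = true := by decide +kernel

theorem top_final569 : allBlock top.chkFinal 316710 512 569 = true := by decide +kernel

theorem top_final570 : allBlock top.chkFinal 316710 512 570 = true := by decide +kernel

theorem top_final571 : allBlock top.chkFinal 316710 512 571 = true := by decide +kernel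

theorem top_final572 : allBlock top.chkFinal 316710 512 572 = true := by decide +kernel

theorem top_final573 : allBlock top.chkFinal 316710 512 573 = true := by decide +kernel

theorem top_final574 : allBlock top.chkFinal 316710 512 574 = true := by decide +kernel

theorem top_final575 : allBlock top.chkFinal 316710 512 575 = true := by decide +kernel

theorem top_final576 : allBlock top.chkFinal 316710 512 576 = true := by decide +kernel

theorem top_final577 : allBlock top.chkFinal 316710 512 577 = true := by decide +kernel

theorem top_final578 : allBlock top.chkFinal 316710 512 578 = true := by decide +kernel

theorem top_final579 : allBlock top.chkFinal 316710 512 579 = true := by decide +kernel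

theorem top_final580 : allBlock top.chkFinal 316710 512 580 = true := by decide +kernel

theorem top_final581 : allBlock top.chkFinal 316710 512 581 = true := by decide +kernel

end Cfsg.Agent.Spor.Cos.Fi23
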