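import Cfsg.Agent.Lib.Spor.Cos.Fi23.TopData

/-! A checked coset enumeration. -/

set_option autoImplicit false
set_option maxRecDepth 100000
set_option maxHeartbeats 4000000

namespace Cfsg.Agent.Spor.Cos.Fi23

theorem top_final582 : allBlock top.chkFinal 316710 512 582 = true := by decide +kernel

theorem top_final583 : allBlock top.chkFinal 316710 512 583 = true := by decide +kernel

theorem top_final584 : allBlock top.chkFinal 316710 512 584 = true := by decide +kernel

theorem top_final585 : allBlock top.chkFinal 316710 512 585 = true := by decide +kernel

theorem top_final586 : allBlock top.chkFinal 316710 512 586 = true := by decide +kernel

theorem top_final587 : allBlock top.chkFinal 316710 512 587 = true := by decide +kernel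

theorem top_final588 : allBlock top.chkFinal 316710 512 588 = true := by decide +kernel

theorem top_final589 : allBlock top.chkFinal 316710 512 589 = true := by decide +kernel

theorem top_final590 : allBlock top.chkFinal 316710 512 590 = true := by decide +kernel

theorem top_final591 : allBlock top.chkFinal 316710 512 591 = true := by decide +kernel

theorem top_final592 : allBlock top.chkFinal 316710 512 592 = true := by decide +kernel

theorem top_final593 : allBlock top.chkFinal 316710 512 593 = true := by decide +kernel

theorem top_final594 : allBlock top.chkFinal 316710 512 594 = true := by decide +kernel

theorem top_final595 : allBlock top.chkFinal 316710 512 595 = true := by decide +kernel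

theorem top_final596 : allBlock top.chkFinal 316710 512 596 = true := by decide +kernel

theorem top_final597 : allBlock top.chkFinal 316710 512 597 = true := by decide +kernel

theorem top_final598 : allBlock top.chkFinal 316710 512 598 = true := by decide +kernel

theorem top_final599 : allBlock top.chkFinal 316710 512 599 = true := by decide +kernel

theorem top_final600 : allBlock top.chkFinal 316710 512 600 = true := by decide +kernel

theorem top_final601 : allBlock top.chkFinal 316710 512 601 = true := by decide +kernel

theorem top_final602 : allBlock top.chkFinal 316710 512 602 = true := by decide +kernel

theorem top_final603 : allBlock top.chkFinal 316710 512 603 = true := by decide +kernel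

theorem top_final604 : allBlock top.chkFinal 316710 512 604 = true := by decide +kernel

theorem top_final605 : allBlock top.chkFinal 316710 512 605 = true := by decide +kernel

theorem top_final606 : allBlock top.chkFinal 316710 512 606 = true := by decide +kernel

theorem top_final607 : allBlock top.chkFinal 316710 512 607 = true := by decide +kernel

theorem top_final608 : allBlock top.chkFinal 316710 512 608 = true := by decide +kernel

theorem top_final609 : allBlock top.chkFinal 316710 512 609 = true := by decide +kernel

theorem top_final610 : allBlock top.chkFinal 316710 512 610 = true := by decide +kernel

theorem top_final611 : allBlock top.chkFinal 316710 512 611 = true := by decide +kernel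

theorem top_final612 : allBlock top.chkFinal 316710 512 612 = true := by decide +kernel

theorem top_final613 : allBlock top.chkFinal 316710 512 613 = true := by decide +kernel

theorem top_final614 : allBlock top.chkFinal 316710 512 614 = true := by decide +kernel

theorem top_final615 : allBlock top.chkFinal 316710 512 615 = true := by decide +kernel

theorem top_final616 : allBlock top.chkFinal 316710 512 616 = true := by decide +kernel

theorem top_final617 : allBlock top.chkFinal 316710 512 617 = true := by decide +kernel

theorem top_final618 : allBlock top.chkFinal 316710 512 618 = true := by decide +kernel

end Cfsg.Agent.Spor.Cos.Fi23
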