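import Cfsg.Agent.Lib.Spor.Cos.Fi23.TopData

/-! A checked coset enumeration. -/

set_option autoImplicit false
set_option maxRecDepth 100000
set_option maxHeartbeats 4000000

namespace Cfsg.Agent.Spor.Cos.Fi23

theorem top_final102 : allBlock top.chkFinal 316710 512 102 = true := by decide +kernel

theorem top_final103 : allBlock top.chkFinal 316710 512 103 = true := by decide +kernel

theorem top_final104 : allBlock top.chkFinal 316710 512 104 = true := by decide +kernel

theorem top_final105 : allBlock top.chkFinal 316710 512 105 = true := by decide +kernel

theorem top_final106 : allBlock top.chkFinal 316710 512 106 = true := by decide +kernel

theorem top_final107 : allBlock top.chkFinal 316710 512 107 = true := by decide +kernel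

theorem top_final108 : allBlock top.chkFinal 316710 512 108 = true := by decide +kernel

theorem top_final109 : allBlock top.chkFinal 316710 512 109 = true := by decide +kernel

theorem top_final110 : allBlock top.chkFinal 316710 512 110 = true := by decide +kernel

theorem top_final111 : allBlock top.chkFinal 316710 512 111 = true := by decide +kernel

theorem top_final112 : allBlock top.chkFinal 316710 512 112 = true := by decide +kernel

theorem top_final113 : allBlock top.chkFinal 316710 512 113 = true := by decide +kernel

theorem top_final114 : allBlock top.chkFinal 316710 512 114 = true := by decide +kernel

theorem top_final115 : allBlock top.chkFinal 316710 512 115 = true := by decide +kernel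

theorem top_final116 : allBlock top.chkFinal 316710 512 116 = true := by decide +kernel

theorem top_final117 : allBlock top.chkFinal 316710 512 117 = true := by decide +kernel

theorem top_final118 : allBlock top.chkFinal 316710 512 118 = true := by decide +kernel

theorem top_final119 : allBlock top.chkFinal 316710 512 119 = true := by decide +kernel

theorem top_final120 : allBlock top.chkFinal 316710 512 120 = true := by decide +kernel

theorem top_final121 : allBlock top.chkFinal 316710 512 121 = true := by decide +kernel

theorem top_final122 : allBlock top.chkFinal 316710 512 122 = true := by decide +kernel

theorem top_final123 : allBlock top.chkFinal 316710 512 123 = true := by decide +kernel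

theorem top_final124 : allBlock top.chkFinal 316710 512 124 = true := by decide +kernel

theorem top_final125 : allBlock top.chkFinal 316710 512 125 = true := by decide +kernel

theorem top_final126 : allBlock top.chkFinal 316710 512 126 = true := by decide +kernel

theorem top_final127 : allBlock top.chkFinal 316710 512 127 = true := by decide +kernel

theorem top_final128 : allBlock top.chkFinal 316710 512 128 = true := by decide +kernel

theorem top_final129 : allBlock top.chkFinal 316710 512 129 = true := by decide +kernel

theorem top_final130 : allBlock top.chkFinal 316710 512 130 = true := by decide +kernel

theorem top_final131 : allBlock top.chkFinal 316710 512 131 = true := by decide +kernel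

theorem top_final132 : allBlock top.chkFinal 316710 512 132 = true := by decide +kernel

theorem top_final133 : allBlock top.chkFinal 316710 512 133 = true := by decide +kernel

theorem top_final134 : allBlock top.chkFinal 316710 512 134 = true := by decide +kernel

theorem top_final135 : allBlock top.chkFinal 316710 512 135 = true := by decide +kernel

theorem top_final136 : allBlock top.chkFinal 316710 512 136 = true := by decide +kernel

theorem top_final137 : allBlock top.chkFinal 316710 512 137 = true := by decide +kernel

theorem top_final138 : allBlock top.chkFinal 316710 512 138 = true := by decide +kernel

theorem top_final139 : allBlock top.chkFinal 316710 512 139 = true := by decide +kernel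

theorem top_final140 : allBlock top.chkFinal 316710 512 140 = true := by decide +kernel

theorem top_final141 : allBlock top.chkFinal 316710 512 141 = true := by decide +kernel

end Cfsg.Agent.Spor.Cos.Fi23
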