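import Cfsg.Agent.Lib.Spor.Cos.Fi23.Words
import Cfsg.Agent.Lib.Spor.Cos.Cox
import Cfsg.Agent.Lib.Spor.Cos.Orb
import Cfsg.Prelude.Def_Spor_Fi23
import Cfsg.Agent.Lib.Spor.Cos.Fi23.TopCert
import Cfsg.Agent.Lib.Spor.Cos.Fi23.MidCert
import Cfsg.Agent.Lib.Spor.Cos.Fi23.O7Cert
import Cfsg.Agent.Lib.Spor.Cos.Fi22.E7Cert
import Cfsg.Agent.Lib.Spor.Cos.Fi22.E6Cert
import Cfsg.Agent.Lib.Spor.Cos.Fi22.D5Cert
import Cfsg.Agent.Lib.Spor.Cos.Fi22.A4Cert

/-! Data and checks for a presented sporadic group. -/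

set_option autoImplicit false
set_option maxRecDepth 100000
set_option maxHeartbeats 4000000

open Cfsg.Spor

namespace Cfsg.Agent.Spor.Cos.Fi23

/-- The generators in order. -/
def alph : List Spor.Fi23.Gen := [.a, .b, .c, .d, .e, .f, .g, .j, .h, .i]

/-- The place of a generator. -/
def num : Spor.Fi23.Gen → ℕ
  | .a => 0
  | .b => 1
  | .c => 2
  | .d => 3
  | .e => 4
  | .f => 5
  | .g => 6
  | .j => 7
  | .h => 8
  | .i => 9

theorem pres : Pres Spor.Fi23.edges Spor.Fi23.extra alph num words where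
  index := by intro a; cases a <;> rfl
  node := by intro a; cases a <;> decide
  order := rfl
  fromRels := by decide +kernel
  toBase := by decide +kernel

/-- The generators by number. -/
noncomputable def g : ℕ → Spor.Fi23 := gen Spor.Fi23.edges Spor.Fi23.extra alph

theorem g_sq (s : ℕ) : g s * g s = 1 := pres.inv s

theorem g_words : ∀ w ∈ words, ev g w = 1 := fun _ hw => pres.ev_base hw

theorem g_gen : Subgroup.closure {x | ∃ s < 10, g s = x} = ⊤ := pres.closure_gen

theorem upper : Finite Spor.Fi23 ∧ Nat.card Spor.Fi23 ≤ 4089470473293004800 := by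
  have h0 : Bound g [] 1 := Bound.nil
  have h1 : Bound g [5, 4, 3, 2] 120 :=
    Bound.step (d := 10) g_sq h0 Fi22.a4 Fi22.a4_checks rfl (by decide +kernel)
      (hbase_of g_sq g_words (n := 10) (by decide +kernel)) Fi22.a4_derived
  have h2 : Bound g [5, 4, 3, 2, 8] 1920 :=
    Bound.step (d := 10) g_sq h1 Fi22.d5 Fi22.d5_checks rfl (by decide +kernel)
      (hbase_of g_sq g_words (n := 10) (by decide +kernel)) Fi22.d5_derived
  have h3 : Bound g [5, 4, 3, 2, 1, 8] 51840 :=
    Bound.step (d := 10) g_sq h2 Fi22.e6 Fi22.e6_checks rfl (by decide +kernel)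
      (hbase_of g_sq g_words (n := 10) (by decide +kernel)) Fi22.e6_derived
  have h4 : Bound g [5, 4, 3, 2, 1, 0, 8] 1451520 :=
    Bound.step (d := 10) g_sq h3 Fi22.e7 Fi22.e7_checks rfl (by decide +kernel)
      (hbase_of g_sq g_words (n := 10) (by decide +kernel)) Fi22.e7_derived
  have h5 : Bound g [0, 1, 2, 3, 4, 5, 8, 9] 4585351680 :=
    Bound.step (d := 10) g_sq h4 o7 o7_checks rfl (by decide +kernel)
      (hbase_of g_sq g_words (n := 10) (by decide +kernel)) o7_derived
  have h6 : Bound g [0, 1, 2, 3, 4, 5, 6, 8, 9] 129123503308800 :=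
    Bound.step (d := 10) g_sq h5 mid mid_checks rfl (by decide +kernel)
      (hbase_of g_sq g_words (n := 10) (by decide +kernel)) mid_derived
  have h7 : Bound g [0, 1, 2, 3, 4, 5, 6, 7, 8, 9] 4089470473293004800 :=
    Bound.step (d := 10) g_sq h6 top top_checks rfl (by decide +kernel)
      (hbase_of g_sq g_words (n := 10) (by decide +kernel)) top_derived
  exact Bound.top (n := 10) h7 g_gen

theorem finite : Finite Spor.Fi23 := upper.1

end Cfsg.Agent.Spor.Cos.Fi23
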