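import Cfsg.Agent.Lib.Spor.Cos.Fi23.Sa1Ent0
import Cfsg.Agent.Lib.Spor.Cos.Fi23.Sa1Ent1
import Cfsg.Agent.Lib.Spor.Cos.Fi23.Sa1Ent2

/-! Data and checks for a presented sporadic group. -/

set_option autoImplicit false
set_option maxRecDepth 100000
set_option maxHeartbeats 4000000

namespace Cfsg.Agent.Spor.Cos.Fi23

theorem sa1_ents : ∀ i < 28160, (sa1.chkEnt actA sa1W 1) i = true :=
  of_blocks (size := 512) (b := 55) (by decide) (by decide) fun j hj => by
    interval_cases j
    · exact sa1_ents0
    · exact sa1_ents1
    · exact sa1_ents2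
    · exact sa1_ents3
    · exact sa1_ents4
    · exact sa1_ents5
    · exact sa1_ents6
    · exact sa1_ents7
    · exact sa1_ents8
    · exact sa1_ents9
    · exact sa1_ents10
    · exact sa1_ents11
    · exact sa1_ents12
    · exact sa1_ents13
    · exact sa1_ents14
    · exact sa1_ents15
    · exact sa1_ents16
    · exact sa1_ents17
    · exact sa1_ents18
    · exact sa1_ents19
    · exact sa1_ents20
    · exact sa1_ents21
    · exact sa1_ents22
    · exact sa1_ents23
    · exact sa1_ents24
    · exact sa1_ents25
    · exact sa1_ents26
    · exact sa1_ents27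
    · exact sa1_ents28
    · exact sa1_ents29
    · exact sa1_ents30
    · exact sa1_ents31
    · exact sa1_ents32
    · exact sa1_ents33
    · exact sa1_ents34
    · exact sa1_ents35
    · exact sa1_ents36
    · exact sa1_ents37
    · exact sa1_ents38
    · exact sa1_ents39
    · exact sa1_ents40
    · exact sa1_ents41
    · exact sa1_ents42
    · exact sa1_ents43
    · exact sa1_ents44
    · exact sa1_ents45
    · exact sa1_ents46
    · exact sa1_ents47
    · exact sa1_ents48
    · exact sa1_ents49
    · exact sa1_ents50
    · exact sa1_ents51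
    · exact sa1_ents52
    · exact sa1_ents53
    · exact sa1_ents54

end Cfsg.Agent.Spor.Cos.Fi23
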