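import Cfsg.Agent.Lib.Spor.Cos.Fi23.TopData

/-! A checked coset enumeration. -/

set_option autoImplicit false
set_option maxRecDepth 100000
set_option maxHeartbeats 4000000

namespace Cfsg.Agent.Spor.Cos.Fi23

theorem top_final222 : allBlock top.chkFinal 316710 512 222 = true := by decide +kernel

theorem top_final223 : allBlock top.chkFinal 316710 512 223 = true := by decide +kernel

theorem top_final224 : allBlock top.chkFinal 316710 512 224 = true := by decide +kernel

theorem top_final225 : allBlock top.chkFinal 316710 512 225 = true := by decide +kernel

theorem top_final226 : allBlock top.chkFinal 316710 512 226 = true := by decide +kernel

theorem top_final227 : allBlock top.chkFinal 316710 512 227 = true := by decide +kernel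

theorem top_final228 : allBlock top.chkFinal 316710 512 228 = true := by decide +kernel

theorem top_final229 : allBlock top.chkFinal 316710 512 229 = true := by decide +kernel

theorem top_final230 : allBlock top.chkFinal 316710 512 230 = true := by decide +kernel

theorem top_final231 : allBlock top.chkFinal 316710 512 231 = true := by decide +kernel

theorem top_final232 : allBlock top.chkFinal 316710 512 232 = true := by decide +kernel

theorem top_final233 : allBlock top.chkFinal 316710 512 233 = true := by decide +kernel

theorem top_final234 : allBlock top.chkFinal 316710 512 234 = true := by decide +kernel

theorem top_final235 : allBlock top.chkFinal 316710 512 235 = true := by decide +kernel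

theorem top_final236 : allBlock top.chkFinal 316710 512 236 = true := by decide +kernel

theorem top_final237 : allBlock top.chkFinal 316710 512 237 = true := by decide +kernel

theorem top_final238 : allBlock top.chkFinal 316710 512 238 = true := by decide +kernel

theorem top_final239 : allBlock top.chkFinal 316710 512 239 = true := by decide +kernel

theorem top_final240 : allBlock top.chkFinal 316710 512 240 = true := by decide +kernel

theorem top_final241 : allBlock top.chkFinal 316710 512 241 = true := by decide +kernel

theorem top_final242 : allBlock top.chkFinal 316710 512 242 = true := by decide +kernel

theorem top_final243 : allBlock top.chkFinal 316710 512 243 = true := by decide +kernel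

theorem top_final244 : allBlock top.chkFinal 316710 512 244 = true := by decide +kernel

theorem top_final245 : allBlock top.chkFinal 316710 512 245 = true := by decide +kernel

theorem top_final246 : allBlock top.chkFinal 316710 512 246 = true := by decide +kernel

theorem top_final247 : allBlock top.chkFinal 316710 512 247 = true := by decide +kernel

theorem top_final248 : allBlock top.chkFinal 316710 512 248 = true := by decide +kernel

theorem top_final249 : allBlock top.chkFinal 316710 512 249 = true := by decide +kernel

theorem top_final250 : allBlock top.chkFinal 316710 512 250 = true := by decide +kernel

theorem top_final251 : allBlock top.chkFinal 316710 512 251 = true := by decide +kernel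

theorem top_final252 : allBlock top.chkFinal 316710 512 252 = true := by decide +kernel

theorem top_final253 : allBlock top.chkFinal 316710 512 253 = true := by decide +kernel

theorem top_final254 : allBlock top.chkFinal 316710 512 254 = true := by decide +kernel

theorem top_final255 : allBlock top.chkFinal 316710 512 255 = true := by decide +kernel

theorem top_final256 : allBlock top.chkFinal 316710 512 256 = true := by decide +kernel

theorem top_final257 : allBlock top.chkFinal 316710 512 257 = true := by decide +kernel

theorem top_final258 : allBlock top.chkFinal 316710 512 258 = true := by decide +kernel

theorem top_final259 : allBlock top.chkFinal 316710 512 259 = true := by decide +kernel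

theorem top_final260 : allBlock top.chkFinal 316710 512 260 = true := by decide +kernel

theorem top_final261 : allBlock top.chkFinal 316710 512 261 = true := by decide +kernel

end Cfsg.Agent.Spor.Cos.Fi23
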